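import Cfsg.Agent.Lib.ClassK.ThreeTransp
import Cfsg.Agent.Lib.InvChar.BrauerSuzuki
import Cfsg.Agent.Lib.OddLocal.PAction
import Mathlib

/-!
# The rank three property of almost simple 3-transposition groups

The class has no invariant congruence for commuting, so its commuting graph is prime; a second orbit of the
centralizer of a member on either kind of neighbour would give a module.
-/

set_option autoImplicit false

namespace Cfsg.Agent.ClassK.Fischer

open scoped commutatorElement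

universe u

variable {G : Type u} [Group G]

/-- The standing hypotheses. -/
structure Setup (D : Set G) : Prop where
  cls : Cfsg.IsThreeTranspositionClass D
  simple : IsSimpleGroup (commutator G)
  nonab : ∃ x y : commutator G, x * y ≠ y * x

variable {D : Set G}

theorem conj_mem (h : Setup D) (g : G) {x : G} (hx : x ∈ D) : g * x * g⁻¹ ∈ D := by
  obtain ⟨d, -, hd⟩ := h.cls.2.1
  rw [hd] at hx ⊢
  obtain ⟨c, rfl⟩ := isConj_iff.1 hx
  exact isConj_iff.2 ⟨g * c, by group⟩

theorem exists_conj (h : Setup D) {x y : G} (hx : x ∈ D) (hy : y ∈ D) : ∃ g : G, g * x * g⁻¹ = y := by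
  obtain ⟨d, -, hd⟩ := h.cls.2.1
  rw [hd] at hx hy
  obtain ⟨c, rfl⟩ := isConj_iff.1 hx
  obtain ⟨c', rfl⟩ := isConj_iff.1 hy
  exact ⟨c' * c⁻¹, by group⟩

theorem sq_eq (h : Setup D) {x : G} (hx : x ∈ D) : x * x = 1 := tt_mul_self h.cls.1 hx

theorem inv_eq (h : Setup D) {x : G} (hx : x ∈ D) : x⁻¹ = x := tt_inv h.cls.1 hx

theorem conj_conj (g k x : G) : g * (k * x * k⁻¹) * g⁻¹ = g * k * x * (g * k)⁻¹ := by group

theorem conj_inv_conj (g x : G) : g⁻¹ * (g * x * g⁻¹) * g⁻¹⁻¹ = x := by group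

theorem conj_injective (g : G) {x y : G} (e : g * x * g⁻¹ = g * y * g⁻¹) : x = y :=
  mul_left_cancel (mul_right_cancel e)

theorem commute_conj_iff (g x y : G) : Commute (g * x * g⁻¹) (g * y * g⁻¹) ↔ Commute x y := by
  constructor
  · intro h
    have h' := h.map (MulAut.conj g⁻¹).toMonoidHom
    simpa [mul_assoc] using h'
  · intro h
    have h' := h.map (MulAut.conj g).toMonoidHom
    simpa using h'

/-- An equivalence on `D` preserved by conjugation, with uniform commuting across classes, is trivial. -/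
theorem master (h : Setup D) (r : G → G → Prop)
    (hrefl : ∀ x ∈ D, r x x) (hsymm : ∀ x ∈ D, ∀ y ∈ D, r x y → r y x)
    (htrans : ∀ x ∈ D, ∀ y ∈ D, ∀ z ∈ D, r x y → r y z → r x z)
    (hinv : ∀ g : G, ∀ x ∈ D, ∀ y ∈ D, r x y → r (g * x * g⁻¹) (g * y * g⁻¹))
    (hcong : ∀ x ∈ D, ∀ y ∈ D, ∀ z ∈ D, r x y → ¬ r z x → Commute z x → Commute z y)
    {a d : G} (ha : a ∈ D) (hd : d ∈ D) (had : r a d) (hne : a ≠ d) :
    ∀ x ∈ D, ∀ y ∈ D, r x y := by
  have cm := fun (g : G) {x : G} (hx : x ∈ D) => conj_mem h g hx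
  let N : Subgroup G :=
    { carrier := {g | ∀ x ∈ D, r (g * x * g⁻¹) x}
      one_mem' := fun x hx => by simpa using hrefl x hx
      mul_mem' := fun {g k} hg hk x hx => by
        rw [← conj_conj]
        exact htrans _ (cm g (cm k hx)) _ (cm g hx) _ hx (hinv g _ (cm k hx) _ hx (hk x hx)) (hg x hx)
      inv_mem' := fun {g} hg x hx => by
        have := hinv g⁻¹ _ (cm g hx) _ hx (hg x hx)
        rw [conj_inv_conj] at this
        exact hsymm _ hx _ (cm g⁻¹ hx) this }
  have hN : ∀ g ∈ N, ∀ x ∈ D, r (g * x * g⁻¹) x := fun g hg => hg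
  have hNn : N.Normal := ⟨fun g hg k x hx => by
    have h1 := hinv k _ (cm g (cm k⁻¹ hx)) _ (cm k⁻¹ hx) (hg _ (cm k⁻¹ hx))
    have e1 : k * (g * (k⁻¹ * x * k⁻¹⁻¹) * g⁻¹) * k⁻¹ = k * g * k⁻¹ * x * (k * g * k⁻¹)⁻¹ := by group
    have e2 : k * (k⁻¹ * x * k⁻¹⁻¹) * k⁻¹ = x := by group
    rwa [e1, e2] at h1⟩
  have hfix : ∀ {x z : G}, x ∈ D → Commute x z → x * z * x⁻¹ = z := fun hx hc => by
    rw [hc.eq, mul_inv_cancel_right]
  have haN : a * d ∈ N := by
    intro z hz
    rw [← conj_conj]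
    by_cases hza : r z a
    · have hzd : r z d := htrans _ hz _ ha _ hd hza had
      have e1 := hinv d _ hz _ hd hzd
      rw [mul_inv_cancel_right] at e1
      have e2 : r (d * z * d⁻¹) a := htrans _ (cm d hz) _ hd _ ha e1 (hsymm _ ha _ hd had)
      have e3 := hinv a _ (cm d hz) _ ha e2
      rw [mul_inv_cancel_right] at e3
      exact htrans _ (cm a (cm d hz)) _ ha _ hz e3 (hsymm _ hz _ ha hza)
    · have hzd : ¬ r z d := fun e => hza (htrans _ hz _ hd _ ha e (hsymm _ ha _ hd had))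
      by_cases hc : Commute z a
      · rw [hfix hd (hcong a ha d hd z hz had hza hc).symm, hfix ha hc.symm]
        exact hrefl z hz
      · have hcd : ¬ Commute z d := fun e =>
          hc (hcong d hd a ha z hz (hsymm _ ha _ hd had) hzd e)
        have e1 : d * z * d⁻¹ = z * d * z⁻¹ := by
          rw [inv_eq h hd, inv_eq h hz]; exact tt_braid h.cls.1 hd hz (fun e => hcd e.symm)
        have e2 : a * z * a⁻¹ = z * a * z⁻¹ := by
          rw [inv_eq h ha, inv_eq h hz]; exact tt_braid h.cls.1 ha hz (fun e => hc e.symm)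
        rw [e1]
        have e3 := hinv a _ (cm z hd) _ (cm z ha) (hinv z _ hd _ ha (hsymm _ ha _ hd had))
        rw [← e2, conj_conj a a z, sq_eq h ha, one_mul, inv_one, mul_one] at e3
        exact e3
  have hadG : a * d ∈ commutator G := by
    obtain ⟨g, hg⟩ := exists_conj h ha hd
    have e : a * d = ⁅a, g⁆ := by
      rw [commutatorElement_def, ← hg, inv_eq h ha]; group
    rw [e, commutator_def]
    exact Subgroup.commutator_mem_commutator (Subgroup.mem_top a) (Subgroup.mem_top g)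
  have hGN : commutator G ≤ N := by
    haveI := h.simple
    rcases Subgroup.Normal.eq_bot_or_eq_top (hNn.subgroupOf (commutator G)) with e | e
    · exfalso
      have : (⟨a * d, hadG⟩ : commutator G) ∈ N.subgroupOf (commutator G) := haN
      rw [e, Subgroup.mem_bot] at this
      have h1 : a * d = 1 := congrArg Subtype.val this
      exact hne (by rw [← inv_eq h hd]; exact eq_inv_of_mul_eq_one_left h1)
    · exact Subgroup.subgroupOf_eq_top.1 e
  let M : Subgroup G :=
    { carrier := {g | r (g * a * g⁻¹) a}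
      one_mem' := by simpa using hrefl a ha
      mul_mem' := fun {g k} hg hk => by
        show r (g * k * a * (g * k)⁻¹) a
        rw [← conj_conj]
        exact htrans _ (cm g (cm k ha)) _ (cm g ha) _ ha (hinv g _ (cm k ha) _ ha hk) hg
      inv_mem' := fun {g} hg => by
        have := hinv g⁻¹ _ (cm g ha) _ ha hg
        rw [conj_inv_conj] at this
        exact hsymm _ ha _ (cm g⁻¹ ha) this }
  have hDM : D ⊆ M := by
    intro e he
    obtain ⟨g, hg⟩ := exists_conj h ha he
    have hea : e * a ∈ commutator G := by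
      have e1 : e * a = ⁅g, a⁆ := by rw [commutatorElement_def, ← hg, inv_eq h ha]
      rw [e1, commutator_def]
      exact Subgroup.commutator_mem_commutator (Subgroup.mem_top g) (Subgroup.mem_top a)
    have := hN _ (hGN hea) a ha
    show r (e * a * e⁻¹) a
    rwa [show e * a * a * (e * a)⁻¹ = e * a * e⁻¹ by group] at this
  have hMtop : M = ⊤ := eq_top_iff.2 (h.cls.2.2.symm.le.trans ((Subgroup.closure_le M).2 hDM))
  have hall : ∀ x ∈ D, r x a := fun x hx => by
    obtain ⟨g, rfl⟩ := exists_conj h ha hx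
    exact (hMtop.ge (Subgroup.mem_top g) : g ∈ M)
  exact fun x hx y hy => htrans _ hx _ ha _ hy (hall x hx) (hsymm _ hy _ ha (hall y hy))

theorem exists_not_commute (h : Setup D) : ∃ x ∈ D, ∃ y ∈ D, ¬ Commute x y := by
  by_contra hh
  push Not at hh
  have hcen : ∀ g : G, g ∈ Subgroup.center G := by
    intro g
    have hle : Subgroup.closure D ≤ Subgroup.center G := by
      rw [Subgroup.closure_le]
      intro x hx
      rw [SetLike.mem_coe, Subgroup.mem_center_iff]
      intro y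
      have hy : y ∈ Subgroup.closure D := h.cls.2.2 ▸ Subgroup.mem_top y
      have : Subgroup.closure D ≤ Subgroup.centralizer ({x} : Set G) := (Subgroup.closure_le _).2
        fun z hz => Subgroup.mem_centralizer_singleton_iff.2 (hh z hz x hx).eq
      exact Subgroup.mem_centralizer_singleton_iff.1 (this hy)
    exact hle (h.cls.2.2 ▸ Subgroup.mem_top g)
  obtain ⟨x, y, hxy⟩ := h.nonab
  exact hxy (Subtype.ext ((Subgroup.mem_center_iff.1 (hcen y.1)) x.1))

variable [Finite G]

theorem exists_commute (h : Setup D) {a : G} (ha : a ∈ D) : ∃ b ∈ D, b ≠ a ∧ Commute a b := by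
  by_contra hh
  push Not at hh
  haveI h2 : Fact (Nat.Prime 2) := ⟨Nat.prime_two⟩
  haveI h3 : Fact (Nat.Prime 3) := ⟨Nat.prime_three⟩
  have haa := sq_eq h ha
  have hcommeq : ∀ g : G, Commute a (g * a * g⁻¹) → g * a * g⁻¹ = a := fun g hc => by
    by_contra hne
    exact hh _ (conj_mem h g ha) hne hc
  have hz := InvChar.zstarHyp G a ⟨h.cls.1.1 a ha, hcommeq⟩
  -- the derived group has odd order
  have hodd : Odd (Nat.card (commutator G)) := by
    refine Odd.of_dvd_nat (Invol.odd_card_oddCore (G := G)) (Subgroup.card_dvd_of_le ?_)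
    set π := QuotientGroup.mk' (Cfsg.oddCore G) with hπ
    have hall : ∀ g : G, π g ∈ Subgroup.zpowers (π a) := by
      intro g
      have hle : Subgroup.closure D ≤ (Subgroup.zpowers (π a)).comap π := by
        rw [Subgroup.closure_le]
        intro x hx
        obtain ⟨k, rfl⟩ := exists_conj h ha hx
        refine ⟨1, ?_⟩
        show π a ^ (1 : ℤ) = π (k * a * k⁻¹)
        have h1 : π (a * k * a⁻¹ * k⁻¹) = 1 := (QuotientGroup.eq_one_iff _).2 (hz k)
        rw [map_mul, map_mul, map_mul, map_inv, map_inv, mul_inv_eq_one, mul_inv_eq_iff_eq_mul] at h1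
        rw [zpow_one, map_mul, map_mul, map_inv, ← h1, mul_inv_cancel_right]
      exact hle (h.cls.2.2 ▸ Subgroup.mem_top g)
    rw [commutator_def, Subgroup.commutator_le]
    intro x _ y _
    refine (QuotientGroup.eq_one_iff _).1 ?_
    show π ⁅x, y⁆ = 1
    obtain ⟨i, hi⟩ := hall x
    obtain ⟨j, hj⟩ := hall y
    rw [map_commutatorElement, ← hi, ← hj, commutatorElement_eq_one_iff_commute]
    exact Commute.zpow_zpow_self (π a) i j
  set K := commutator G with hK
  have h2K : ¬ 2 ∣ Nat.card K := fun e => Nat.not_even_iff_odd.2 hodd (even_iff_two_dvd.2 e)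
  haveI hKn : K.Normal := inferInstance
  set A := Subgroup.zpowers a with hA
  have hAp : IsPGroup 2 A := IsPGroup.of_card (n := 1) (by rw [Nat.card_zpowers, h.cls.1.1 a ha, pow_one])
  have hAK : A ≤ Subgroup.normalizer (K : Set G) := by rw [Subgroup.normalizer_eq_top]; exact le_top
  have hAbot : A ≤ Subgroup.normalizer ((⊥ : Subgroup G) : Set G) := by
    rw [Subgroup.normalizer_eq_top]; exact le_top
  set C := K ⊓ Subgroup.centralizer ({a} : Set G) with hC
  -- invariant Sylow subgroups for primes other than 3 are centralized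
  have hC3 : ∀ q : ℕ, q.Prime → q ≠ 3 → ¬ q ∣ C.relIndex K := by
    intro q hq hq3 hdvd
    haveI := Fact.mk hq
    obtain ⟨Q, -, hQK, hQq, hAQ, hQi⟩ := OddLocal.exists_invariant_sylow_ge (q := q) hAp hAK h2K
      (bot_le : ⊥ ≤ K) IsPGroup.of_bot hAbot
    have hQC : Q ≤ C := by
      refine le_inf hQK fun x hx => Subgroup.mem_centralizer_singleton_iff.2 ?_
      have haxQ : a * x * a⁻¹ ∈ Q :=
        (Subgroup.mem_normalizer_iff.1 (hAQ (Subgroup.mem_zpowers a)) x).1 hx
      by_cases hc : Commute a (x * a * x⁻¹)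
      · exact mul_inv_eq_iff_eq_mul.1 (hcommeq x hc)
      · exfalso
        apply hc
        have hy : a * (x * a * x⁻¹) ∈ Q := by
          have := mul_mem haxQ (inv_mem hx)
          rwa [inv_eq h ha, show a * x * a * x⁻¹ = a * (x * a * x⁻¹) by group] at this
        have h3' := tt_noncommute_cube h.cls.1 ha (conj_mem h x ha) hc
        obtain ⟨n, hn⟩ := IsPGroup.iff_orderOf.1 hQq ⟨_, hy⟩
        rw [Subgroup.orderOf_mk] at hn
        have hd := orderOf_dvd_of_pow_eq_one h3'
        rw [hn] at hd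
        have hn0 : n = 0 := by
          by_contra hn0
          exact hq3 ((Nat.prime_dvd_prime_iff_eq hq Nat.prime_three).1 ((dvd_pow_self q hn0).trans hd))
        rw [hn0, pow_zero, orderOf_eq_one_iff] at hn
        rw [show x * a * x⁻¹ = a⁻¹ from eq_inv_of_mul_eq_one_right hn]
        exact (Commute.refl a).inv_right
    exact hQi (hdvd.trans (Dvd.intro_left _ (Subgroup.relIndex_mul_relIndex Q C K hQC inf_le_left)))
  obtain ⟨P, -, hPK, hPp, hAP, hPi⟩ := OddLocal.exists_invariant_sylow_ge (q := 3) hAp hAK h2K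
    (bot_le : ⊥ ≤ K) IsPGroup.of_bot hAbot
  -- `K = P C`
  have hcop : Nat.Coprime (C.subgroupOf K).index (P.subgroupOf K).index := by
    refine Nat.coprime_of_dvd fun q hq h1 h2 => ?_
    by_cases hq3 : q = 3
    · exact hPi (hq3 ▸ h2)
    · exact hC3 q hq hq3 h1
  have hfac : ∀ g ∈ K, ∃ p ∈ P, ∃ c ∈ C, g = p * c := by
    intro g hg
    set H := C.subgroupOf K
    set T := P.subgroupOf K
    have hdiv : H.index ∣ H.relIndex T := by
      have e : (H ⊓ T).relIndex T * T.index = (H ⊓ T).index := Subgroup.relIndex_mul_index inf_le_right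
      rw [Subgroup.inf_relIndex_right] at e
      have e2 : H.index ∣ (H ⊓ T).index := Subgroup.index_dvd_of_le inf_le_left
      rw [← e] at e2
      exact hcop.dvd_of_dvd_mul_right e2
    let f : T → K ⧸ H := fun t => QuotientGroup.mk (t : K)
    have hrange : Nat.card (MulAction.orbit T ((1 : K) : K ⧸ H)) = H.relIndex T := by
      rw [Nat.card_congr (MulAction.orbitEquivQuotientStabilizer T ((1 : K) : K ⧸ H))]
      show (MulAction.stabilizer T ((1 : K) : K ⧸ H)).index = (H.subgroupOf T).index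
      congr 1
      ext t
      rw [MulAction.mem_stabilizer_iff, Subgroup.mem_subgroupOf]
      show ((((t : K) * 1 : K)) : K ⧸ H) = _ ↔ _
      rw [mul_one, QuotientGroup.eq, mul_one, inv_mem_iff]
    have huniv : MulAction.orbit T ((1 : K) : K ⧸ H) = Set.univ := by
      refine Set.eq_of_subset_of_ncard_le (Set.subset_univ _) ?_ (Set.toFinite _)
      rw [Set.ncard_univ, ← Nat.card_coe_set_eq, hrange]
      haveI : Nonempty (MulAction.orbit T ((1 : K) : K ⧸ H)) := ⟨⟨_, MulAction.mem_orbit_self _⟩⟩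
      exact Nat.le_of_dvd (hrange ▸ Nat.card_pos) hdiv
    obtain ⟨t, ht⟩ : ((⟨g, hg⟩ : K) : K ⧸ H) ∈ MulAction.orbit T ((1 : K) : K ⧸ H) :=
      huniv ▸ Set.mem_univ _
    change (((t : K) * 1 : K) : K ⧸ H) = _ at ht
    rw [mul_one, QuotientGroup.eq] at ht
    exact ⟨((t : K) : G), t.2, _, ht, by simp⟩
  have hPA : A ≤ Subgroup.normalizer (P : Set G) := hAP
  have hGK : ∀ g : G, ∃ k ∈ K, g = k ∨ g = k * a := by
    let M : Subgroup G :=
      { carrier := {g | g ∈ K ∨ g * a ∈ K}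
        one_mem' := Or.inl (one_mem K)
        mul_mem' := by
          have hc : ∀ k ∈ K, a * k * a ∈ K := fun k hk => by
            have := hKn.conj_mem k hk a
            rwa [inv_eq h ha] at this
          rintro x y (hx | hx) (hy | hy)
          · exact Or.inl (mul_mem hx hy)
          · exact Or.inr (by rw [mul_assoc]; exact mul_mem hx hy)
          · refine Or.inr ?_
            rw [show x * y * a = (x * a) * (a⁻¹ * y * a) by group, inv_eq h ha]
            exact mul_mem hx (hc y hy)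
          · refine Or.inl ?_
            rw [show x * y = (x * a) * (a⁻¹ * (y * a) * a⁻¹) by group, inv_eq h ha]
            exact mul_mem hx (hc _ hy)
        inv_mem' := by
          rintro x (hx | hx)
          · exact Or.inl (inv_mem hx)
          · refine Or.inr ?_
            have := hKn.conj_mem _ (inv_mem hx) a
            rwa [show a * (x * a)⁻¹ * a⁻¹ = x⁻¹ * a⁻¹ by group, inv_eq h ha] at this }
    have hDM : D ⊆ M := by
      intro e he
      obtain ⟨g, hg⟩ := exists_conj h ha he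
      refine Or.inr ?_
      have e1 : e * a = ⁅g, a⁆ := by rw [commutatorElement_def, ← hg, inv_eq h ha]
      rw [e1, hK, commutator_def]
      exact Subgroup.commutator_mem_commutator (Subgroup.mem_top g) (Subgroup.mem_top a)
    intro g
    rcases (Subgroup.closure_le M).2 hDM (h.cls.2.2 ▸ Subgroup.mem_top g) with hg | hg
    · exact ⟨g, hg, Or.inl rfl⟩
    · exact ⟨g * a, hg, Or.inr (by rw [mul_assoc, haa, mul_one])⟩
  have hDP : D ⊆ (P ⊔ A : Subgroup G) := by
    intro e he
    obtain ⟨g, hg⟩ := exists_conj h ha he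
    obtain ⟨k, hk, hgk⟩ := hGK g
    have e1 : e = k * a * k⁻¹ := by
      rcases hgk with rfl | rfl
      · exact hg.symm
      · rw [← hg]; group
    obtain ⟨p, hp, c, hc, rfl⟩ := hfac k hk
    have hca : c * a * c⁻¹ = a :=
      mul_inv_eq_iff_eq_mul.2 (Subgroup.mem_centralizer_singleton_iff.1 hc.2)
    rw [e1, show p * c * a * (p * c)⁻¹ = p * (c * a * c⁻¹) * p⁻¹ by group, hca]
    exact mul_mem (mul_mem (Subgroup.mem_sup_left hp) (Subgroup.mem_sup_right (Subgroup.mem_zpowers a)))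
      (inv_mem (Subgroup.mem_sup_left hp))
  have htop : P ⊔ A = ⊤ := eq_top_iff.2 (h.cls.2.2.symm.le.trans ((Subgroup.closure_le _).2 hDP))
  have hKP : K = P := by
    refine le_antisymm (fun g hg => ?_) hPK
    have hg' : g ∈ ((P ⊔ A : Subgroup G) : Set G) := htop ▸ Subgroup.mem_top g
    rw [Subgroup.coe_mul_of_right_le_normalizer_left P A hPA] at hg'
    obtain ⟨p, hp, x, hx, rfl⟩ := hg'
    have hxK : x ∈ K := by
      have := mul_mem (inv_mem (hPK hp)) hg
      rwa [inv_mul_cancel_left] at this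
    have hx1 : orderOf x = 1 := by
      refine Nat.eq_one_of_dvd_coprimes (a := 2) (b := Nat.card K) (Nat.prime_two.coprime_iff_not_dvd.2 h2K) ?_ ?_
      · obtain ⟨i, rfl⟩ := hx
        exact orderOf_dvd_of_pow_eq_one (by
          show (a ^ i) ^ 2 = 1
          rw [← zpow_natCast, ← zpow_mul, mul_comm, zpow_mul, zpow_natCast, pow_two, haa, one_zpow])
      · rw [← Subgroup.orderOf_mk x hxK]; exact orderOf_dvd_natCard _
    have hx1' := orderOf_eq_one_iff.1 hx1
    subst hx1'
    simpa using hp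
  -- a simple 3-group is abelian
  have hKp : IsPGroup 3 K := hKP ▸ hPp
  haveI := h.simple
  haveI : Nontrivial (Subgroup.center K) := hKp.center_nontrivial
  rcases Subgroup.Normal.eq_bot_or_eq_top (inferInstance : (Subgroup.center K).Normal) with e | e
  · exact (Subgroup.nontrivial_iff_ne_bot _).1 inferInstance e
  · obtain ⟨x, y, hxy⟩ := h.nonab
    exact hxy ((Subgroup.mem_center_iff.1 (e.ge (Subgroup.mem_top y))) x)

/-- A set of members whose union of all outside relations is uniform. -/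
def IsModule (D M : Set G) : Prop :=
  M ⊆ D ∧ ∀ y ∈ D, y ∉ M → ∀ x ∈ M, ∀ x' ∈ M, Commute y x → Commute y x'

/-- The commuting graph has no proper nontrivial module. -/
theorem no_module (h : Setup D) {M : Set G} (hM : IsModule D M) {a d : G} (ha : a ∈ M) (hd : d ∈ M)
    (hne : a ≠ d) : M = D := by
  classical
  by_contra hMD
  -- connectedness of the two graphs
  have haD := hM.1 ha
  have conn : ∀ s : G → G → Prop, (∀ g x y, s x y → s (g * x * g⁻¹) (g * y * g⁻¹)) →
      (∀ x ∈ D, ∀ y ∈ D, s x y → x ≠ y) →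
      (∀ x ∈ D, ∀ y ∈ D, s x y → s y x) →
      (∃ x ∈ D, ∃ y ∈ D, s x y) →
      (∀ x ∈ D, ∀ y ∈ D, ∀ z ∈ D, ¬ s z x → ¬ s z y → z ≠ x → z ≠ y → Commute z x → Commute z y) →
      ∀ S : Set G, S ⊆ D → (∀ x ∈ S, ∀ y ∈ D, s x y → y ∈ S) → S.Nonempty → D ⊆ S := by
    intro s sinv sne ssymm ⟨x₀, hx₀, y₀, hy₀, hs₀⟩ scol S hSD hScl ⟨u, hu⟩
    let t : G → G → Prop := Relation.ReflTransGen fun x y => x ∈ D ∧ y ∈ D ∧ s x y
    have tsymm : ∀ x y, t x y → t y x := fun x y hxy => by
      induction hxy with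
      | refl => exact .refl
      | tail _ h2 ih => exact .head ⟨h2.2.1, h2.1, ssymm _ h2.1 _ h2.2.1 h2.2.2⟩ ih
    have htot := master h t (fun _ _ => .refl) (fun x _ y _ => tsymm x y)
      (fun _ _ _ _ _ _ h1 h2 => h1.trans h2)
      (fun g x _ y _ hxy => hxy.lift (fun z => g * z * g⁻¹)
        fun z w hzw => ⟨conj_mem h g hzw.1, conj_mem h g hzw.2.1, sinv g z w hzw.2.2⟩)
      (fun x hx y hy z hz hxy hzx => scol x hx y hy z hz
        (fun e => hzx (.single ⟨hz, hx, e⟩))
        (fun e => hzx ((Relation.ReflTransGen.single ⟨hz, hy, e⟩).trans (tsymm _ _ hxy)))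
        (fun e => hzx (e ▸ .refl)) (fun e => hzx (e ▸ tsymm _ _ hxy)))
      hx₀ hy₀ (.single ⟨hx₀, hy₀, hs₀⟩) (sne _ hx₀ _ hy₀ hs₀)
    intro v hv
    have huv := htot u (hSD hu) v hv
    have : ∀ w, t u w → w ∈ S := fun w hw => by
      induction hw with
      | refl => exact hu
      | tail _ h2 ih => exact hScl _ ih _ h2.2.1 h2.2.2
    exact this v huv
  have connC : ∀ S : Set G, S ⊆ D → (∀ x ∈ S, ∀ y ∈ D, Commute x y → y ∈ S) → S.Nonempty → D ⊆ S := by
    intro S h1 h2 h3
    obtain ⟨b, hb, hba, hab⟩ := exists_commute h haD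
    exact conn (fun x y => x ≠ y ∧ Commute x y)
      (fun g x y e => ⟨fun e' => e.1 (conj_injective g e'), (commute_conj_iff g x y).2 e.2⟩)
      (fun _ _ _ _ e => e.1) (fun _ _ _ _ e => ⟨e.1.symm, e.2.symm⟩)
      ⟨a, haD, b, hb, hba.symm, hab⟩
      (fun x _ y _ z _ n1 _ e1 _ hc => absurd ⟨e1, hc⟩ n1) S h1
      (fun x hx y hy e => h2 x hx y hy e.2) h3
  have connN : ∀ S : Set G, S ⊆ D → (∀ x ∈ S, ∀ y ∈ D, ¬ Commute x y → y ∈ S) → S.Nonempty → D ⊆ S := by
    obtain ⟨x, hx, y, hy, hxy⟩ := exists_not_commute h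
    exact conn (fun x y => ¬ Commute x y)
      (fun g x y e => (commute_conj_iff g x y).not.2 e)
      (fun _ _ _ _ e e' => e (e' ▸ Commute.refl _)) (fun _ _ _ _ e e' => e e'.symm)
      ⟨x, hx, y, hy, hxy⟩
      (fun _ _ _ _ _ _ _ n2 _ _ _ => not_not.1 n2)
  -- proper modules sharing an element have a proper union
  have hunion : ∀ M₁ M₂ : Set G, IsModule D M₁ → IsModule D M₂ → M₁ ≠ D → M₂ ≠ D →
      (M₁ ∩ M₂).Nonempty → IsModule D (M₁ ∪ M₂) ∧ M₁ ∪ M₂ ≠ D := by
    intro M₁ M₂ h₁ h₂ hn1 hn2 ⟨i, hi1, hi2⟩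
    refine ⟨⟨Set.union_subset h₁.1 h₂.1, fun y hy hyn x hx x' hx' hc => ?_⟩, fun hU => ?_⟩
    · have n1 : y ∉ M₁ := fun e => hyn (Or.inl e)
      have n2 : y ∉ M₂ := fun e => hyn (Or.inr e)
      have hci : Commute y i := by
        rcases hx with hx | hx
        · exact h₁.2 y hy n1 x hx i hi1 hc
        · exact h₂.2 y hy n2 x hx i hi2 hc
      rcases hx' with hx' | hx'
      · exact h₁.2 y hy n1 i hi1 x' hx' hci
      · exact h₂.2 y hy n2 i hi2 x' hx' hci
    · obtain ⟨c, hcD, hc1⟩ : ∃ c ∈ D, c ∉ M₁ := by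
        by_contra e; push Not at e
        exact hn1 (Set.Subset.antisymm h₁.1 e)
      obtain ⟨e, heD, he2⟩ : ∃ e ∈ D, e ∉ M₂ := by
        by_contra e; push Not at e
        exact hn2 (Set.Subset.antisymm h₂.1 e)
      have inM2 : ∀ x ∈ D, x ∉ M₁ → x ∈ M₂ := fun x hx n =>
        ((hU.ge hx : x ∈ M₁ ∪ M₂)).resolve_left n
      have inM1 : ∀ x ∈ D, x ∉ M₂ → x ∈ M₁ := fun x hx n =>
        ((hU.ge hx : x ∈ M₁ ∪ M₂)).resolve_right n
      have hc2 := inM2 c hcD hc1
      have he1 := inM1 e heD he2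
      by_cases hec : Commute e c
      · have hall : ∀ x ∈ D, x ∉ M₁ → ∀ y ∈ M₁, Commute x y := by
          intro x hx n y hy
          have h1 : Commute e x := h₂.2 e heD he2 c hc2 x (inM2 x hx n) hec
          exact h₁.2 x hx n e he1 y hy h1.symm
        have := connN M₁ h₁.1 (fun x hx y hy hxy => by
          by_contra n; exact hxy (hall y hy n x hx).symm) ⟨i, hi1⟩
        exact hc1 (this hcD)
      · have hall : ∀ x ∈ D, x ∉ M₁ → ∀ y ∈ M₁, ¬ Commute x y := by
          intro x hx n y hy hxy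
          have h1 : Commute x e := h₁.2 x hx n y hy e he1 hxy
          exact hec (h₂.2 e heD he2 x (inM2 x hx n) c hc2 h1.symm)
        have := connC M₁ h₁.1 (fun x hx y hy hxy => by
          by_contra n; exact hall y hy n x hx hxy.symm) ⟨i, hi1⟩
        exact hc1 (this hcD)
  let r : G → G → Prop := fun x y => x = y ∨ ∃ M : Set G, IsModule D M ∧ M ≠ D ∧ x ∈ M ∧ y ∈ M
  have hr := master h r (fun _ _ => Or.inl rfl)
    (fun x _ y _ e => e.elim (fun e => Or.inl e.symm)
      fun ⟨M, m1, m2, m3, m4⟩ => Or.inr ⟨M, m1, m2, m4, m3⟩)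
    (fun x _ y _ z _ e1 e2 => by
      rcases e1 with rfl | ⟨M₁, a1, a2, a3, a4⟩
      · exact e2
      rcases e2 with rfl | ⟨M₂, b1, b2, b3, b4⟩
      · exact Or.inr ⟨M₁, a1, a2, a3, a4⟩
      obtain ⟨u1, u2⟩ := hunion M₁ M₂ a1 b1 a2 b2 ⟨y, a4, b3⟩
      exact Or.inr ⟨_, u1, u2, Or.inl a3, Or.inr b4⟩)
    (fun g x _ y _ e => by
      rcases e with rfl | ⟨M, m1, m2, m3, m4⟩
      · exact Or.inl rfl
      refine Or.inr ⟨{z | z ∈ D ∧ g⁻¹ * z * g⁻¹⁻¹ ∈ M}, ⟨fun z hz => hz.1, ?_⟩, ?_, ?_, ?_⟩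
      · intro z hz hzn u hu v hv hc
        refine (commute_conj_iff g⁻¹ z v).1 (m1.2 _ (conj_mem h g⁻¹ hz) (fun e => hzn ⟨hz, e⟩)
          _ hu.2 _ hv.2 ((commute_conj_iff g⁻¹ z u).2 hc))
      · intro e
        refine m2 (Set.Subset.antisymm m1.1 fun z hz => ?_)
        have := (e.ge (conj_mem h g hz)).2
        rwa [conj_inv_conj] at this
      · exact ⟨conj_mem h g (m1.1 m3), by rwa [conj_inv_conj]⟩
      · exact ⟨conj_mem h g (m1.1 m4), by rwa [conj_inv_conj]⟩)
    (fun x _ y _ z hz e n hc => by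
      rcases e with rfl | ⟨M, m1, m2, m3, m4⟩
      · exact hc
      exact m1.2 z hz (fun e => n (Or.inr ⟨M, m1, m2, e, m3⟩)) x m3 y m4 hc)
    haD (hM.1 hd) (Or.inr ⟨M, hM, hMD, ha, hd⟩) hne
  -- a maximal proper module containing `a`
  obtain ⟨M₀, ⟨hM₀, hM₀D, ha₀⟩, hmax⟩ := (Set.toFinite {N : Set G | IsModule D N ∧ N ≠ D ∧ a ∈ N}).exists_maximal
    ⟨M, hM, hMD, ha⟩
  apply hM₀D
  refine Set.Subset.antisymm hM₀.1 fun x hx => ?_
  rcases hr a haD x hx with rfl | ⟨N, n1, n2, n3, n4⟩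
  · exact ha₀
  obtain ⟨u1, u2⟩ := hunion M₀ N hM₀ n1 hM₀D n2 ⟨a, ha₀, n3⟩
  exact hmax ⟨u1, u2, Or.inl ha₀⟩ Set.subset_union_left (Or.inr n4)

/-- `C(a)` is transitive on the `R`-neighbours of `a`, for `R` either commuting or noncommuting. -/
theorem transitive (h : Setup D) (R : G → G → Prop)
    (hRsymm : ∀ x y, R x y → R y x) (hRne : ∀ x ∈ D, ∀ y ∈ D, R x y → x ≠ y)
    (hRinv : ∀ g x y, R x y → R (g * x * g⁻¹) (g * y * g⁻¹))
    (hkind : ∀ y x x', y ∈ D → x ∈ D → x' ∈ D → y ≠ x → y ≠ x' → (R y x ↔ R y x') → Commute y x → Commute y x')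
    {a : G} (ha : a ∈ D)
    (hstep : ∀ b ∈ D, ∀ b' ∈ D, R a b → R a b' → ¬ R b b' → ∃ g, Commute g a ∧ g * b * g⁻¹ = b') :
    ∀ b ∈ D, ∀ b' ∈ D, R a b → R a b' → ∃ g, Commute g a ∧ g * b * g⁻¹ = b' := by
  classical
  have cm := fun (g : G) {x : G} (hx : x ∈ D) => conj_mem h g hx
  let s : G → G → Prop := fun x y => x ≠ y ∧ ¬ R x y
  have hsinv : ∀ g x y, s x y → s (g * x * g⁻¹) (g * y * g⁻¹) := fun g x y e =>
    ⟨fun e' => e.1 (conj_injective g e'), fun e' => e.2 (by
      have := hRinv g⁻¹ _ _ e'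
      rwa [conj_inv_conj, conj_inv_conj] at this)⟩
  let L : G → G → Set G := fun x y => {z | z ∈ D ∧ s x z ∧ s y z}
  have hL : ∀ g x y, (L (g * x * g⁻¹) (g * y * g⁻¹)).ncard = (L x y).ncard := by
    intro g x y
    have : L (g * x * g⁻¹) (g * y * g⁻¹) = (fun z => g * z * g⁻¹) '' L x y := by
      ext z
      constructor
      · rintro ⟨hz, h1, h2⟩
        refine ⟨g⁻¹ * z * g⁻¹⁻¹, ⟨cm g⁻¹ hz, ?_, ?_⟩, by group⟩
        · have := hsinv g⁻¹ _ _ h1
          rwa [conj_inv_conj] at this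
        · have := hsinv g⁻¹ _ _ h2
          rwa [conj_inv_conj] at this
      · rintro ⟨w, ⟨hw, h1, h2⟩, rfl⟩
        exact ⟨cm g hw, hsinv g _ _ h1, hsinv g _ _ h2⟩
    rw [this, Set.ncard_image_of_injective _ fun _ _ e => conj_injective g e]
  by_contra hnt
  push Not at hnt
  obtain ⟨b, hb, b', hb', hab, hab', hnt⟩ := hnt
  obtain ⟨x₀, ⟨hx₀, hax₀⟩, hmin⟩ := (Set.toFinite {x | x ∈ D ∧ R a x}).exists_minimalFor
    (fun x => (L a x).ncard) _ ⟨b, hb, hab⟩
  have hmin' : ∀ x ∈ D, R a x → (L a x₀).ncard ≤ (L a x).ncard := fun x hx hax => by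
    rcases le_total (L a x₀).ncard (L a x).ncard with e | e
    · exact e
    · exact hmin ⟨hx, hax⟩ e
  let O : Set G := {x | ∃ g, Commute g a ∧ g * x₀ * g⁻¹ = x}
  have hfixa : ∀ g, Commute g a → g * a * g⁻¹ = a := fun g hg => by rw [hg.eq, mul_inv_cancel_right]
  have hOD : ∀ x ∈ O, x ∈ D ∧ R a x := by
    rintro x ⟨g, hg, rfl⟩
    refine ⟨cm g hx₀, ?_⟩
    have := hRinv g _ _ hax₀
    rwa [hfixa g hg] at this
  have hOclosed : ∀ x ∈ O, ∀ g, Commute g a → g * x * g⁻¹ ∈ O := by
    rintro x ⟨k, hk, rfl⟩ g hg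
    exact ⟨g * k, hg.mul_left hk, (conj_conj g k x₀).symm⟩
  have hcross : ∀ x ∈ O, ∀ q ∈ D, R a q → q ∉ O → R x q := by
    intro x hx q hq haq hqO
    by_contra hn
    obtain ⟨g, hg, hgx⟩ := hstep x (hOD x hx).1 q hq (hOD x hx).2 haq hn
    exact hqO (hgx ▸ hOclosed x hx g hg)
  have hOmin : ∀ x ∈ O, (L a x).ncard = (L a x₀).ncard := by
    rintro x ⟨g, hg, rfl⟩
    conv_lhs => rw [← hfixa g hg]
    exact hL g a x₀
  obtain ⟨q₀, hq₀, haq₀, hq₀O⟩ : ∃ q ∈ D, R a q ∧ q ∉ O := by
    by_contra hh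
    push Not at hh
    obtain ⟨g, hg, hgb⟩ := hh b hb hab
    obtain ⟨g', hg', hgb'⟩ := hh b' hb' hab'
    refine hnt (g' * g⁻¹) (hg'.mul_left hg.inv_left) ?_
    rw [← conj_conj, ← hgb, conj_inv_conj, hgb']
  -- equal intersections
  have heq : ∀ x ∈ O, ∀ q ∈ D, R x q → L x q ⊆ L a x → L a x ⊆ L x q := by
    intro x hx q hq hxq hsub
    refine (Set.eq_of_subset_of_ncard_le hsub ?_ (Set.toFinite _)).ge
    rw [hOmin x hx]
    obtain ⟨g, hg⟩ := exists_conj h (hOD x hx).1 ha
    rw [← hL g x q, hg]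
    refine hmin' _ (cm g hq) ?_
    have := hRinv g _ _ hxq
    rwa [hg] at this
  let U : Set G := {u | ∃ x ∈ O, u ∈ L a x}
  let Z : Set G := {y | y ∈ D ∧ y ∉ O ∧ y ∉ U}
  have hUR : ∀ u ∈ U, ¬ R a u := fun u ⟨x, _, hu⟩ => hu.2.1.2
  have ha_O : a ∉ O := fun e => hRne a ha a ha (hOD a e).2 rfl
  have ha_U : a ∉ U := fun ⟨x, _, hu⟩ => hu.2.1.1 rfl
  -- members of `Z` are `R`-related to `O` and not to `U`
  have hZO : ∀ z ∈ Z, ∀ x ∈ O, R x z := by
    rintro z ⟨hz, hzO, hzU⟩ x hx
    by_cases hza : z = a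
    · exact hza ▸ hRsymm _ _ (hOD x hx).2
    by_cases haz : R a z
    · exact hcross x hx z hz haz hzO
    · by_contra hn
      exact hzU ⟨x, hx, hz, ⟨fun e => hza e.symm, haz⟩, ⟨fun e => hzO (e ▸ hx), hn⟩⟩
  have hZU : ∀ z ∈ Z, ∀ u ∈ U, ¬ R z u := by
    rintro z hz u ⟨x, hx, hu⟩
    by_cases hza : z = a
    · exact hza ▸ hu.2.1.2
    have hxz := hZO z hz x hx
    have hsub : L x z ⊆ L a x := by
      rintro w ⟨hw, hxw, hzw⟩
      refine ⟨hw, ⟨?_, ?_⟩, hxw⟩
      · rintro rfl; exact hxw.2 (hRsymm _ _ (hOD x hx).2)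
      · intro haw
        by_cases hwO : w ∈ O
        · exact hzw.2 (hRsymm _ _ (hZO z hz w hwO))
        · exact hxw.2 (hcross x hx w hw haw hwO)
    exact (heq x hx z hz.1 hxz hsub hu).2.2.2
  have hmod : IsModule D Z := by
    refine ⟨fun y hy => hy.1, fun y hy hyZ z hz z' hz' hc => ?_⟩
    have n1 : y ≠ z := fun e => hyZ (e ▸ hz)
    have n2 : y ≠ z' := fun e => hyZ (e ▸ hz')
    refine hkind y z z' hy hz.1 hz'.1 n1 n2 ?_ hc
    by_cases hyO : y ∈ O
    · exact iff_of_true (hZO z hz y hyO) (hZO z' hz' y hyO)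
    have hyU : y ∈ U := by
      by_contra e
      exact hyZ ⟨hy, hyO, e⟩
    exact iff_of_false (fun e => hZU z hz y hyU (hRsymm _ _ e)) (fun e => hZU z' hz' y hyU (hRsymm _ _ e))
  have haZ : a ∈ Z := ⟨ha, ha_O, ha_U⟩
  have hqZ : q₀ ∈ Z := ⟨hq₀, hq₀O, fun e => hUR _ e haq₀⟩
  have hall := no_module h hmod haZ hqZ (hRne a ha q₀ hq₀ haq₀)
  exact (hall.ge hx₀).2.1 ⟨1, Commute.one_left a, by group⟩

theorem rank_three (h : Setup D) {a : G} (ha : a ∈ D) :
    (∀ b ∈ D, ∀ b' ∈ D, b ≠ a → b' ≠ a → Commute a b → Commute a b' →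
      ∃ g : G, Commute g a ∧ g * b * g⁻¹ = b') ∧
    (∀ c ∈ D, ∀ c' ∈ D, ¬ Commute a c → ¬ Commute a c' →
      ∃ g : G, Commute g a ∧ g * c * g⁻¹ = c') := by
  have E := h.cls.1
  constructor
  · intro b hb b' hb' h1 h2 h3 h4
    refine transitive h (fun x y => x ≠ y ∧ Commute x y) (fun x y e => ⟨e.1.symm, e.2.symm⟩)
      (fun _ _ _ _ e => e.1)
      (fun g x y e => ⟨fun e' => e.1 (conj_injective g e'), (commute_conj_iff g x y).2 e.2⟩)
      (fun y x x' _ _ _ n1 n2 e hc => (e.1 ⟨n1, hc⟩).2)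
      ha ?_ b hb b' hb' ⟨h1.symm, h3⟩ ⟨h2.symm, h4⟩
    intro x hx y hy hax hay hn
    by_cases hxy : x = y
    · exact ⟨1, Commute.one_left a, by rw [hxy]; group⟩
    have hnc : ¬ Commute x y := fun e => hn ⟨hxy, e⟩
    refine ⟨x * y, (hax.2.symm.mul_left hay.2.symm), ?_⟩
    rw [mul_inv_rev, inv_eq h hx, inv_eq h hy]
    calc x * y * x * (y * x) = (x * y * x) * y * x := by group
      _ = (y * x * y) * y * x := by rw [tt_braid E hx hy hnc]
      _ = y * x * (y * y) * x := by group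
      _ = y := by rw [sq_eq h hy, mul_one, mul_assoc, sq_eq h hx, mul_one]
  · intro c hc c' hc' h1 h2
    refine transitive h (fun x y => ¬ Commute x y) (fun x y e e' => e e'.symm)
      (fun _ _ _ _ e e' => e (e' ▸ Commute.refl _))
      (fun g x y e => (commute_conj_iff g x y).not.2 e)
      (fun y x x' _ _ _ _ _ e hc => (not_iff_not.1 e).1 hc)
      ha ?_ c hc c' hc' h1 h2
    intro x hx y hy hax hay hn
    have hxy : Commute x y := not_not.1 hn
    -- `g` exchanges `x` and `y` and fixes `a`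
    have haa := sq_eq h ha
    have hxx := sq_eq h hx
    have hyy := sq_eq h hy
    have bx : a * x * a = x * a * x := tt_braid E ha hx hax
    have by' : a * y * a = y * a * y := tt_braid E ha hy hay
    have hyx : y * x = x * y := hxy.eq.symm
    have hyxy : y * x * y = x := by rw [hyx, mul_assoc, hyy, mul_one]
    have hxyx : x * y * x = y := by rw [mul_assoc, hyx, ← mul_assoc, hxx, one_mul]
    -- `f` is the opposite transposition
    set f := x * y * a * x * y with hf
    have hff : f * f = 1 := by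
      calc f * f = x * y * a * (x * (y * x) * y) * a * x * y := by rw [hf]; group
        _ = x * y * (a * ((x * x) * (y * y)) * a) * x * y := by rw [hyx]; group
        _ = x * (y * x) * y := by rw [hxx, hyy, one_mul, mul_one, haa]; group
        _ = (x * x) * (y * y) := by rw [hyx]; group
        _ = 1 := by rw [hxx, hyy, one_mul]
    have hfa : a * f * a = f := by
      calc a * f * a = (a * x * a) * (a⁻¹ * y * a) * (x * y * a) := by rw [hf]; group
        _ = (x * a * x) * (y * a * y) * (x * y * a) := by rw [bx, inv_eq h ha, by']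
        _ = x * a * x * y * a * (y * x * y) * a := by group
        _ = x * a * x * y * (a * x * a) := by rw [hyxy]; group
        _ = x * a * (x * y * x) * a * x := by rw [bx]; group
        _ = x * (a * y * a) * x := by rw [hxyx]; group
        _ = x * y * a * (y * x) := by rw [by']; group
        _ = f := by rw [hyx, hf]; group
    have hfxf : f * x * f = y * a * y := by
      calc f * x * f = x * y * a * ((x * y * x) * x * y) * a * x * y := by rw [hf]; group
        _ = x * y * (a * (y * x * y) * a) * x * y := by rw [hxyx]; group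
        _ = x * y * (x * a * x) * x * y := by rw [hyxy, bx]
        _ = (x * y * x) * a * ((x * x) * y) := by group
        _ = y * a * y := by rw [hxyx, hxx, one_mul]
    refine ⟨a * f, (Commute.refl a).mul_left ?_, ?_⟩
    · show f * a = a * f
      calc f * a = a * f * a * a := by rw [hfa]
        _ = a * f := by rw [mul_assoc (a * f) a a, haa, mul_one]
    · have hfi : f⁻¹ = f := inv_eq_of_mul_eq_one_right hff
      rw [mul_inv_rev, hfi, inv_eq h ha]
      calc a * f * x * (f * a) = a * (f * x * f) * a := by group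
        _ = a * (a * y * a) * a := by rw [hfxf, by']
        _ = (a * a) * y * (a * a) := by group
        _ = y := by rw [haa, one_mul, mul_one]

end Cfsg.Agent.ClassK.Fischer
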