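import Mathlib
import Cfsg.Agent.Lib.LocalEvenA.Core

/-!
# Thompson's `A × B` lemma

Version used here: `U` a `p`-group normalizing the `p`-group `P`, `y` a `p'`-element normalizing `P`,
each commutator `[y, u]` (`u ∈ U`) centralizes `P`, and `y` centralizes `C_P(U)`; then `y` centralizes `P`.
-/

set_option autoImplicit false

namespace Cfsg.Agent.ClassK

open Subgroup

variable {G : Type*} [Group G] {p : ℕ}

/-- Iterated commutator `[N, U, U, ...]` lies in the lower central series of any group containing both. -/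
theorem iterate_commutator_le {N U H : Subgroup G} (hN : N ≤ H) (hU : U ≤ H) :
    ∀ i : ℕ, (fun A => ⁅A, U⁆)^[i] N ≤ H.lowerCentralSeries i := by
  intro i
  induction i with
  | zero => simpa using hN
  | succ i ih =>
    rw [Function.iterate_succ_apply', Subgroup.lowerCentralSeries_succ]
    exact commutator_mono ih hU

/-- If `U` normalizes the `p`-group `N` and is a `p`-group, every `Q < N` misses an element `n` of `N`
with `[n, U] ≤ Q`. -/
theorem exists_mem_commutator_le [Finite G] [Fact p.Prime] {U N Q : Subgroup G}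
    (hU : IsPGroup p U) (hN : IsPGroup p N) (hUN : U ≤ normalizer (N : Set G)) (hQN : ¬ N ≤ Q) :
    ∃ n ∈ N, n ∉ Q ∧ ∀ u ∈ U, n⁻¹ * (u * n * u⁻¹) ∈ Q := by
  have hH : IsPGroup p (U ⊔ N : Subgroup G) := IsPGroup.to_sup_of_normal_right' hU hN hUN
  haveI := hH.isNilpotent
  obtain ⟨k, hk⟩ := (Subgroup.isNilpotent_iff_lowerCentralSeries (U ⊔ N)).mp (inferInstance : Group.IsNilpotent (U ⊔ N : Subgroup G))
  classical
  have hex : ∃ i, (fun A => ⁅A, U⁆)^[i] N ≤ Q :=
    ⟨k, (iterate_commutator_le le_sup_right le_sup_left k).trans (hk ▸ bot_le)⟩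
  have hA : ∀ i, (fun A => ⁅A, U⁆)^[i] N ≤ N := by
    intro i
    induction i with
    | zero => simp
    | succ i ih =>
      rw [Function.iterate_succ_apply']
      refine (commutator_mono ih le_rfl).trans ?_
      rw [commutator_comm]
      exact le_normalizer_iff_commutator_le_right.mp hUN
  rcases Nat.eq_zero_or_pos (Nat.find hex) with h0 | h0
  · exact absurd (by simpa [h0] using Nat.find_spec hex) hQN
  obtain ⟨i, hi⟩ : ∃ i, Nat.find hex = i + 1 := ⟨Nat.find hex - 1, by omega⟩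
  have hle := Nat.find_spec hex
  rw [hi, Function.iterate_succ_apply'] at hle
  obtain ⟨n, hn, hnQ⟩ := SetLike.not_le_iff_exists.mp (Nat.find_min hex (m := i) (by omega))
  exact ⟨n, hA i hn, hnQ, fun u hu => hle (LocalEvenA.commutator_conj_mem hn hu)⟩

/-- Thompson's `A × B` lemma. -/
theorem axb_lemma [Finite G] [Fact p.Prime] {U P : Subgroup G} {y : G}
    (hU : IsPGroup p U) (hP : IsPGroup p P) (hUP : U ≤ normalizer (P : Set G))
    (hyP : y ∈ normalizer (P : Set G)) (hy : (orderOf y).Coprime p)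
    (hc : ∀ u ∈ U, ∀ a ∈ P, Commute (y * u * y⁻¹ * u⁻¹) a)
    (hcent : ∀ a ∈ P, (∀ u ∈ U, Commute u a) → Commute y a) :
    ∀ a ∈ P, Commute y a := by
  set Q := P ⊓ centralizer ({y} : Set G) with hQdef
  have memQ : ∀ a, a ∈ Q ↔ a ∈ P ∧ Commute y a := by
    intro a
    simp only [hQdef, mem_inf, mem_centralizer_iff, Set.mem_singleton_iff, forall_eq]
    rfl
  suffices hPQ : P ≤ Q from fun a ha => ((memQ a).mp (hPQ ha)).2
  by_contra hcon
  haveI := hP.isNilpotent
  have hne : Q.subgroupOf P ≠ ⊤ := fun h => hcon (subgroupOf_eq_top.mp h)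
  obtain ⟨x, hx, hxQ⟩ := SetLike.exists_of_lt
    (Group.normalizerCondition_of_isNilpotent (G := P) (Q.subgroupOf P) hne.lt_top)
  set N := P ⊓ normalizer (Q : Set G) with hNdef
  have hxN : (x : G) ∈ N := by
    refine ⟨x.2, ?_⟩
    show (x : G) ∈ normalizer (Q : Set G)
    rw [mem_normalizer_iff]
    intro a
    constructor
    · intro ha
      have := (mem_normalizer_iff.mp hx ⟨a, ((memQ a).mp ha).1⟩).mp (by simpa [mem_subgroupOf] using ha)
      simpa [mem_subgroupOf] using this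
    · intro ha
      have haP : a ∈ P := by
        have := P.mul_mem (P.mul_mem (P.inv_mem x.2) ((memQ _).mp ha).1) x.2
        simpa [mul_assoc] using this
      have := (mem_normalizer_iff.mp hx ⟨a, haP⟩).mpr (by simpa [mem_subgroupOf] using ha)
      simpa [mem_subgroupOf] using this
  have hNQ : ¬ N ≤ Q := fun h => hxQ (by simpa [mem_subgroupOf] using h hxN)
  have hUQ : ∀ u ∈ U, ∀ q ∈ Q, u * q * u⁻¹ ∈ Q := by
    intro u hu q hq
    obtain ⟨hqP, hyq⟩ := (memQ q).mp hq
    have hmem : u * q * u⁻¹ ∈ P := (mem_normalizer_iff.mp (hUP hu) q).mp hqP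
    refine (memQ _).mpr ⟨hmem, ?_⟩
    show y * (u * q * u⁻¹) = u * q * u⁻¹ * y
    calc y * (u * q * u⁻¹)
        = (y * u * y⁻¹ * u⁻¹) * u * (y * q) * u⁻¹ := by group
      _ = (y * u * y⁻¹ * u⁻¹) * u * (q * y) * u⁻¹ := by rw [hyq.eq]
      _ = (y * u * y⁻¹ * u⁻¹) * (u * q * u⁻¹) * (u * y * u⁻¹) := by group
      _ = (u * q * u⁻¹) * (y * u * y⁻¹ * u⁻¹) * (u * y * u⁻¹) := by rw [(hc u hu _ hmem).eq]
      _ = u * q * u⁻¹ * y := by group
  have hUQ' : U ≤ normalizer (Q : Set G) := by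
    intro u hu
    rw [mem_normalizer_iff]
    intro q
    refine ⟨hUQ u hu q, fun h => ?_⟩
    have := hUQ u⁻¹ (U.inv_mem hu) _ h
    simpa [mul_assoc] using this
  have hUN : U ≤ normalizer (N : Set G) := by
    intro u hu
    have hu' : u ∈ normalizer ((normalizer (Q : Set G) : Subgroup G) : Set G) := le_normalizer (hUQ' hu)
    rw [mem_normalizer_iff]
    intro a
    simp only [hNdef, mem_inf]
    exact and_congr (mem_normalizer_iff.mp (hUP hu) a) (mem_normalizer_iff.mp hu' a)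
  obtain ⟨n, hnN, hnQ, hn⟩ :=
    exists_mem_commutator_le hU (hP.to_le inf_le_left) hUN hNQ
  have hnP : n ∈ P := hnN.1
  have hyn : y * n * y⁻¹ ∈ P := (mem_normalizer_iff.mp hyP n).mp hnP
  set b := y * n * y⁻¹ * n⁻¹ with hbdef
  have hbP : b ∈ P := P.mul_mem hyn (P.inv_mem hnP)
  have hbU : ∀ u ∈ U, Commute u b := by
    intro u hu
    obtain ⟨hqP, hyq⟩ := (memQ _).mp (hn u hu)
    set q := n⁻¹ * (u * n * u⁻¹) with hqdef
    have h1 : u * n * u⁻¹ = n * q := by rw [hqdef]; group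
    have hmem : u * (y * n * y⁻¹) * u⁻¹ ∈ P := (mem_normalizer_iff.mp (hUP hu) _).mp hyn
    have h2 : u * (y * n * y⁻¹) * u⁻¹ = y * n * y⁻¹ * q := by
      calc u * (y * n * y⁻¹) * u⁻¹
          = (y * u * y⁻¹ * u⁻¹) * (u * (y * n * y⁻¹) * u⁻¹) * (y * u * y⁻¹ * u⁻¹)⁻¹ := by
            rw [(hc u hu _ hmem).eq, mul_inv_cancel_right]
        _ = y * (u * n * u⁻¹) * y⁻¹ := by group
        _ = y * n * (q * y⁻¹) := by rw [h1]; group
        _ = y * n * (y⁻¹ * q) := by rw [hyq.inv_left.eq]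
        _ = y * n * y⁻¹ * q := by group
    have h3 : u * b * u⁻¹ = b := by
      calc u * b * u⁻¹ = (u * (y * n * y⁻¹) * u⁻¹) * (u * n * u⁻¹)⁻¹ := by rw [hbdef]; group
        _ = b := by rw [h2, h1, hbdef]; group
    show u * b = b * u
    conv_rhs => rw [← h3]
    group
  have hbc : Commute y b := hcent b hbP hbU
  have key : Commute y n⁻¹ := by
    refine LocalEvenA.comm_of_coprime_chain hy ?_ ?_
    · have hbinv : n⁻¹⁻¹ * (y * n⁻¹ * y⁻¹) = b⁻¹ := by rw [hbdef]; group
      obtain ⟨k, hk⟩ := hP ⟨b⁻¹, P.inv_mem hbP⟩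
      exact ⟨k, hbinv ▸ congrArg Subtype.val hk⟩
    · have hbinv : n⁻¹⁻¹ * (y * n⁻¹ * y⁻¹) = b⁻¹ := by rw [hbdef]; group
      exact hbinv ▸ hbc.inv_right
  exact hnQ ((memQ n).mpr ⟨hnP, by simpa using key.inv_right⟩)

end Cfsg.Agent.ClassK
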