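import Mathlib
import Cfsg.Prelude.Def_CaseTheorems
import Cfsg.Prelude.Def_Quasithin
import Cfsg.Prelude.Def_QuasithinSetup
import Cfsg.Agent.Lib.Components.FStar
import Cfsg.Agent.Lib.Components.PPrimeCore
import Cfsg.Agent.Lib.ClassK.AxB

/-!
# Groups of characteristic `p`: `C_H(O_p(H)) ≤ O_p(H)`
-/

set_option autoImplicit false

namespace Cfsg.Agent.ClassK

open Subgroup Cfsg

variable {G : Type*} [Group G] {p : ℕ}

/-- `C_H(O_p(H)) ≤ O_p(H)`, stated in the ambient group. -/
def CharP (p : ℕ) (H : Subgroup G) : Prop :=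
  H ⊓ centralizer (pCoreOf p H : Set G) ≤ pCoreOf p H

theorem charTwo_iff (H : Subgroup G) : IsOfCharacteristicTwo ↥H ↔ CharP 2 H :=
  LocalEvenA.charP_iff 2 H

/-- If `U` is a `p`-subgroup of a group `M` of characteristic `p` and `C_G(U) ≤ M`, then `N_G(U)`
has characteristic `p`. -/
theorem charP_normalizer [Finite G] [Fact p.Prime] {M U : Subgroup G} (hM : CharP p M)
    (hU : IsPGroup p U) (hUM : U ≤ M) (hC : centralizer (U : Set G) ≤ M) :
    CharP p (normalizer (U : Set G)) := by
  set N := normalizer (U : Set G) with hNdef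
  set R := pCoreOf p N with hRdef
  set P := pCoreOf p M with hPdef
  set X := N ⊓ centralizer (R : Set G) with hXdef
  have hUR : U ≤ R := LocalEvenA.le_pCoreOf le_normalizer le_rfl hU
  have hXM : X ≤ M := fun x hx => hC (centralizer_le hUR hx.2)
  have hXN : X ≤ N := inf_le_left
  have hNX : N ≤ normalizer (X : Set G) := by
    intro g hg
    have hgR : g ∈ normalizer (R : Set G) := LocalEvenA.le_normalizer_pCoreOf p N hg
    rw [mem_normalizer_iff]
    intro x
    simp only [hXdef, mem_inf]
    refine and_congr (mem_normalizer_iff.mp (le_normalizer hg) x) ?_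
    simp only [mem_centralizer_iff, SetLike.mem_coe]
    constructor
    · intro h r hr
      have h' := h (g⁻¹ * r * g) (by
        simpa using (mem_normalizer_iff.mp (inv_mem hgR) r).mp hr)
      calc r * (g * x * g⁻¹) = g * (g⁻¹ * r * g * x) * g⁻¹ := by group
        _ = g * (x * (g⁻¹ * r * g)) * g⁻¹ := by rw [h']
        _ = g * x * g⁻¹ * r := by group
    · intro h r hr
      have h' := h (g * r * g⁻¹) ((mem_normalizer_iff.mp hgR r).mp hr)
      calc r * x = g⁻¹ * (g * r * g⁻¹ * (g * x * g⁻¹)) * g := by group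
        _ = g⁻¹ * (g * x * g⁻¹ * (g * r * g⁻¹)) * g := by rw [h']
        _ = x * r := by group
  have hPn : M ≤ normalizer (P : Set G) := LocalEvenA.le_normalizer_pCoreOf p M
  have hPp : IsPGroup p P := LocalEvenA.pCoreOf_isPGroup' p M
  -- the part of `X` inside `O_p(M)` is centralized by `X`
  have hW : X ⊓ P ≤ R := by
    refine le_trans (LocalEvenA.le_pCoreOf inf_le_left ?_ (hPp.to_le inf_le_right))
      (LocalEvenA.le_pCoreOf ((LocalEvenA.pCoreOf_le' p X).trans hXN)
        (hNX.trans (LocalEvenA.pCoreOf_normalizer p X)) (LocalEvenA.pCoreOf_isPGroup' p X))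
    intro g hg
    rw [mem_normalizer_iff]
    intro x
    simp only [mem_inf]
    exact and_congr (mem_normalizer_iff.mp (le_normalizer hg) x)
      (mem_normalizer_iff.mp (hPn (hXM hg)) x)
  have hXp : IsPGroup p X := by
    refine LocalEvenA.isPGroup_of_forall_coprime fun y hy hyo => ?_
    have hyM : y ∈ M := hXM hy
    have hyU : ∀ u ∈ U, Commute y u := fun u hu => (mem_centralizer_iff.mp hy.2 u (hUR hu)).symm
    have hyP : ∀ a ∈ P, Commute y a := by
      refine axb_lemma hU hPp (hUM.trans hPn) (hPn hyM) hyo ?_ ?_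
      · intro u hu a _
        rw [(hyU u hu).eq, mul_inv_cancel_right, mul_inv_cancel]
        exact Commute.one_left a
      · intro a ha hau
        have haN : a ∈ N :=
          centralizer_le_normalizer (U : Set G) (mem_centralizer_iff.mpr fun u hu => hau u hu)
        have hb : a⁻¹ * (y * a * y⁻¹) ∈ X ⊓ P := by
          refine ⟨?_, P.mul_mem (P.inv_mem ha) ((mem_normalizer_iff.mp (hPn hyM) a).mp ha)⟩
          have h1 : a⁻¹ * y * a ∈ X := by
            simpa using (mem_normalizer_iff.mp (inv_mem (hNX haN)) y).mp hy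
          simpa [mul_assoc] using X.mul_mem h1 (X.inv_mem hy)
        refine LocalEvenA.comm_of_coprime_chain hyo ?_ ?_
        · obtain ⟨k, hk⟩ := hPp ⟨_, hb.2⟩
          exact ⟨k, congrArg Subtype.val hk⟩
        · exact (mem_centralizer_iff.mp hy.2 _ (hW hb)).symm
    have hyPmem : y ∈ P := hM ⟨hyM, mem_centralizer_iff.mpr fun a ha => ((hyP a ha).eq).symm⟩
    obtain ⟨k, hk⟩ := hPp ⟨y, hyPmem⟩
    exact LocalEvenA.eq_one_of_pPow_of_coprime (congrArg Subtype.val hk) hyo
  exact LocalEvenA.le_pCoreOf hXN hNX hXp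

/-- A subgroup containing `O_p(M)` of a group `M` of characteristic `p` has characteristic `p`. -/
theorem charP_of_pCoreOf_le [Finite G] [Fact p.Prime] {M Y : Subgroup G} (hM : CharP p M)
    (hYM : Y ≤ M) (hle : pCoreOf p M ≤ Y) : CharP p Y := by
  have h : pCoreOf p M ≤ pCoreOf p Y :=
    LocalEvenA.le_pCoreOf hle (hYM.trans (LocalEvenA.le_normalizer_pCoreOf p M))
      (LocalEvenA.pCoreOf_isPGroup' p M)
  exact fun x hx => h (hM ⟨hYM hx.1, centralizer_le h hx.2⟩)

/-- `O_p(H)` lies in every subgroup of `H` that is a maximal `p`-subgroup of the whole group. -/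
theorem pCoreOf_le_sylow [Finite G] [Fact p.Prime] {H : Subgroup G} (T : Sylow p G)
    (hT : (T : Subgroup G) ≤ H) : pCoreOf p H ≤ (T : Subgroup G) := by
  have hp : IsPGroup p ((T : Subgroup G) ⊔ pCoreOf p H : Subgroup G) :=
    IsPGroup.to_sup_of_normal_right' T.2 (LocalEvenA.pCoreOf_isPGroup' p H)
      (hT.trans (LocalEvenA.le_normalizer_pCoreOf p H))
  exact le_sup_right.trans (T.3 hp le_sup_left).le

section Abstract

variable {X : Type*} [Group X] [Finite X]

open Components in
theorem layer_eq_bot_of_charTwo (h : IsOfCharacteristicTwo X) : layer X = ⊥ := by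
  haveI : Fact (Nat.Prime 2) := ⟨Nat.prime_two⟩
  rw [layer_eq_bot_iff]
  intro L hL
  have hs : Group.IsSolvable (pCore 2 X) :=
    haveI := (sSup_isPGroup_of_normal (p := 2) (G := X)).isNilpotent
    inferInstance
  have hle : L ≤ pCore 2 X :=
    (commutator_eq_bot_iff_le_centralizer.mp (component_commute_normal_solvable hL hs)).trans h
  exact qs_not_isSolvable hL.2 (solvable_of_solvable_injective (inclusion_injective hle))

open Components in
theorem oddCore_eq_bot_of_charTwo (h : IsOfCharacteristicTwo X) : pPrimeCore 2 X = ⊥ := by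
  haveI : Fact (Nat.Prime 2) := ⟨Nat.prime_two⟩
  obtain ⟨k, hk⟩ := (sSup_isPGroup_of_normal (p := 2) (G := X)).exists_card_eq
  have hdisj : Disjoint (pPrimeCore 2 X) (pCore 2 X) := by
    rw [disjoint_iff]
    refine inf_eq_bot_of_coprime ?_
    rw [hk]
    exact pPrimeCore_coprime.pow_right k
  have hle : pPrimeCore 2 X ≤ pCore 2 X := fun x hx => h (mem_centralizer_iff.mpr fun y hy =>
    (commute_of_normal_of_disjoint _ _ inferInstance inferInstance hdisj x y hx hy).eq.symm)
  exact hdisj.eq_bot_of_le hle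

open Components in
theorem fStar_eq_pCore_two (hl : layer X = ⊥) (ho : pPrimeCore 2 X = ⊥) :
    generalizedFittingSubgroup X = pCore 2 X := by
  haveI : Fact (Nat.Prime 2) := ⟨Nat.prime_two⟩
  refine le_antisymm ?_ (pCore_le_fitting.trans fitting_le_fStar)
  rw [generalizedFittingSubgroup, hl, bot_sup_eq, fitting_eq_iSup_pCore, iSup_le_iff]
  intro q
  haveI : Fact (Nat.Prime (q : ℕ)) := ⟨Nat.prime_of_mem_primeFactors q.2⟩
  rcases eq_or_ne (q : ℕ) 2 with h | h
  · rw [h]
  · have : pCore (q : ℕ) X ≤ pPrimeCore 2 X := by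
      refine le_pPrimeCore inferInstance ?_
      obtain ⟨k, hk⟩ := (sSup_isPGroup_of_normal (p := (q : ℕ)) (G := X)).exists_card_eq
      rw [hk]
      exact ((Nat.coprime_primes Fact.out Nat.prime_two).mpr h).pow_left k
    exact (this.trans ho.le).trans bot_le

theorem charTwo_of_fStar (h : generalizedFittingSubgroup X = pCore 2 X) : IsOfCharacteristicTwo X := by
  have := Components.centralizer_fStar_le (G := X)
  rwa [h] at this

theorem fStar_eq_of_charTwo (h : IsOfCharacteristicTwo X) :
    generalizedFittingSubgroup X = pCore 2 X :=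
  fStar_eq_pCore_two (layer_eq_bot_of_charTwo h) (oddCore_eq_bot_of_charTwo h)

theorem charTwo_of_layer_oddCore (hl : layer X = ⊥) (ho : pPrimeCore 2 X = ⊥) :
    IsOfCharacteristicTwo X :=
  charTwo_of_fStar (fStar_eq_pCore_two hl ho)

theorem layer_eq_bot_of_isSolvable (h : Group.IsSolvable X) : layer X = ⊥ := by
  rw [Components.layer_eq_bot_iff]
  intro L hL
  exact Components.qs_not_isSolvable hL.2 (solvable_of_solvable_injective L.subtype_injective)

/-- A subnormal subgroup of a group of characteristic 2 has characteristic 2. -/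
theorem charTwo_subnormal (h : IsOfCharacteristicTwo X) {K : Subgroup X} (hK : K.IsSubnormal) :
    IsOfCharacteristicTwo ↥K := by
  refine charTwo_of_layer_oddCore ?_ ?_
  · rw [← le_bot_iff, ← map_le_map_iff_of_injective K.subtype_injective, Subgroup.map_bot]
    exact (Components.component_map_layer_le hK).trans (layer_eq_bot_of_charTwo h).le
  · rw [← le_bot_iff, ← map_le_map_iff_of_injective K.subtype_injective, Subgroup.map_bot,
      Components.map_subtype_pPrimeCore_of_subnormal hK]
    exact inf_le_left.trans (oddCore_eq_bot_of_charTwo h).le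

end Abstract

theorem mem_calHe_iff [Finite G] (H : Subgroup G) : H ∈ calHe G ↔ IsOfCharacteristicTwo ↥H :=
  ⟨fun h => charTwo_of_fStar h, fun h => fStar_eq_of_charTwo h⟩

/-- In a group of even order in which every involution centralizer has characteristic 2, every
2-local subgroup has characteristic 2. -/
theorem isCharacteristicTwoType_of_centralizers [Finite G] (heven : Even (Nat.card G))
    (h : ∀ t : G, orderOf t = 2 → IsOfCharacteristicTwo ↥(centralizer ({t} : Set G))) :
    IsCharacteristicTwoType G := by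
  haveI : Fact (Nat.Prime 2) := ⟨Nat.prime_two⟩
  refine ⟨heven, fun U hU hne => ?_⟩
  haveI : Nontrivial U := (nontrivial_iff_ne_bot U).mpr hne
  haveI : Nontrivial (center ↥U) := hU.center_nontrivial
  obtain ⟨k, hk0, hk⟩ : ∃ k, 0 < k ∧ Nat.card (center ↥U) = 2 ^ k :=
    ((hU.to_subgroup _).nontrivial_iff_card).mp inferInstance
  obtain ⟨t, ht⟩ := exists_prime_orderOf_dvd_card' (G := center ↥U) 2 (hk ▸ dvd_pow_self 2 hk0.ne')
  have hto : orderOf ((t : U) : G) = 2 := by rw [Subgroup.orderOf_coe, Subgroup.orderOf_coe, ht]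
  rw [charTwo_iff]
  refine charP_normalizer ((charTwo_iff _).mp (h _ hto)) hU ?_ ?_
  · intro u hu
    rw [mem_centralizer_singleton_iff]
    exact congrArg Subtype.val (mem_center_iff.mp t.2 ⟨u, hu⟩)
  · exact centralizer_le (Set.singleton_subset_iff.mpr (t : U).2)

end Cfsg.Agent.ClassK
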