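import Mathlib
import Cfsg.Agent.Lib.LocalEvenA.Core
import Cfsg.Agent.Lib.Basics.CoprimeAction
import Cfsg.Agent.Lib.ClassK.CharTwo

/-!
# Elements acting trivially on the Frattini quotient of `O_2`
-/

set_option autoImplicit false

namespace Cfsg.Agent.ClassK

open Subgroup Cfsg

theorem mul_self_mem_frattini {R : Type*} [Group R] [Finite R] (hR : IsPGroup 2 R) (x : R) :
    x * x ∈ frattini R := by
  haveI : Fact (Nat.Prime 2) := ⟨Nat.prime_two⟩
  haveI := hR.isNilpotent
  simp only [frattini, Order.radical, mem_iInf]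
  intro M hM
  haveI : M.Normal := NormalizerCondition.normal_of_coatom M
    Group.normalizerCondition_of_isNilpotent hM
  by_contra hx
  have htop : M ⊔ zpowers (x * x) = ⊤ :=
    hM.2 _ (lt_of_le_of_ne le_sup_left fun h =>
      hx (h ▸ (le_sup_right : zpowers (x * x) ≤ _) (mem_zpowers _)))
  obtain ⟨m, hm, _, ⟨i, rfl⟩, hmi⟩ := mem_sup_of_normal_left.mp (htop ▸ mem_top x : x ∈ M ⊔ zpowers (x * x))
  simp only at hmi
  have h1 : x ^ (1 - 2 * i) ∈ M := by
    have : x ^ (1 - 2 * i) = m := by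
      have hmi' : m = x * (x ^ (2 : ℤ)) ^ (-i) := by
        rw [zpow_neg, zpow_two, eq_mul_inv_iff_mul_eq]
        exact hmi
      rw [hmi', sub_eq_add_neg, zpow_add, zpow_one, ← zpow_mul, mul_neg]
    rw [this]; exact hm
  obtain ⟨k, hk⟩ := hR x
  have hcop : IsCoprime (1 - 2 * i) ((2 ^ k : ℕ) : ℤ) := by
    push_cast
    exact IsCoprime.pow_right ⟨1, i, by ring⟩
  obtain ⟨u, v, huv⟩ := hcop
  have hxM : x ∈ M := by
    have : x = (x ^ (1 - 2 * i)) ^ u := by
      have e : x ^ (((2 ^ k : ℕ) : ℤ) * v) = 1 := by rw [zpow_mul, zpow_natCast, hk, one_zpow]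
      conv_lhs => rw [← zpow_one x, ← huv, zpow_add, mul_comm v, e, mul_one, mul_comm u, zpow_mul]
    rw [this]
    exact M.zpow_mem h1 u
  exact hx (M.mul_mem hxM hxM)

variable {X : Type*} [Group X] [Finite X]

/-- In a group of characteristic 2, elements acting trivially on `O_2 / Φ(O_2)` lie in `O_2`. -/
theorem mem_pCore_of_trivial_on_frattini_quotient (h : IsOfCharacteristicTwo X) {x : X}
    (hx : ∀ q ∈ pCore 2 X, x * q * x⁻¹ * q⁻¹ ∈ (frattini ↥(pCore 2 X)).map (pCore 2 X).subtype) :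
    x ∈ pCore 2 X := by
  haveI : Fact (Nat.Prime 2) := ⟨Nat.prime_two⟩
  haveI hQn : (pCore 2 X).Normal := inferInstance
  set F := (frattini ↥(pCore 2 X)).map (pCore 2 X).subtype with hF
  haveI hFn : F.Normal := inferInstance
  let K : Subgroup X :=
    (centralizer (((pCore 2 X).map (QuotientGroup.mk' F) : Subgroup (X ⧸ F)) : Set (X ⧸ F))).comap
      (QuotientGroup.mk' F)
  haveI : ((pCore 2 X).map (QuotientGroup.mk' F)).Normal :=
    hQn.map _ (QuotientGroup.mk'_surjective F)
  haveI : K.Normal := by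
    haveI := normal_centralizer (H := (pCore 2 X).map (QuotientGroup.mk' F))
    exact inferInstance
  have hmem : ∀ y : X, y ∈ K ↔ ∀ q ∈ pCore 2 X, y * q * y⁻¹ * q⁻¹ ∈ F := by
    intro y
    simp only [K, mem_comap, mem_centralizer_iff]
    constructor
    · intro hy q hq
      have := hy _ (mem_map_of_mem (QuotientGroup.mk' F) hq)
      rw [← QuotientGroup.eq_one_iff]
      simp only [QuotientGroup.mk'_apply] at this
      simp only [QuotientGroup.mk_mul, QuotientGroup.mk_inv, ← this]
      group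
    · rintro hy _ ⟨q, hq, rfl⟩
      have := (QuotientGroup.eq_one_iff _).mpr (hy q hq)
      simp only [QuotientGroup.mk_mul, QuotientGroup.mk_inv, mul_inv_eq_one, mul_inv_eq_iff_eq_mul] at this
      simp only [QuotientGroup.mk'_apply]
      simpa using this.symm
  have hKp : IsPGroup 2 K := by
    refine LocalEvenA.isPGroup_of_forall_coprime fun y hy hyo => ?_
    have hQp : IsPGroup 2 (pCore 2 X) := LocalEvenA.pCore_isPGroup' 2 X
    have hFQ : F ≤ pCore 2 X := map_subtype_le _
    have hcop : (Nat.card (zpowers y)).Coprime (Nat.card F) := by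
      rw [Nat.card_zpowers]
      obtain ⟨k, hk⟩ := (hQp.to_le hFQ).exists_card_eq
      rw [hk]
      exact hyo.pow_right k
    have hall : ∀ q ∈ pCore 2 X, ∀ a ∈ zpowers y, a * q * a⁻¹ * q⁻¹ ∈ F :=
      fun q hq a ha => (hmem a).mp (zpowers_le.mpr hy ha) q hq
    have hC : (pCore 2 X ⊓ centralizer ({y} : Set X)).subgroupOf (pCore 2 X) = ⊤ := by
      refine frattini_nongenerating (eq_top_iff.mpr fun q _ => ?_)
      obtain ⟨c, hc, hcF⟩ := Basics.exists_centralizer_mem_coset (zpowers y) F
        le_normalizer_of_normal hcop (Or.inl inferInstance) (q : X)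
        (le_normalizer_of_normal (mem_top _)) (hall q q.2)
      have hcQ : c ∈ pCore 2 X := by
        simpa using (pCore 2 X).mul_mem q.2 (hFQ hcF)
      obtain ⟨f, hf, hfe⟩ := hcF
      have : q = (⟨c, hcQ⟩ : pCore 2 X) * f⁻¹ := by
        refine Subtype.ext ?_
        show (q : X) = c * (f : X)⁻¹
        rw [show (f : X) = (q : X)⁻¹ * c from hfe]
        group
      rw [this]
      refine mul_mem (mem_sup_left ?_) (mem_sup_right (inv_mem hf))
      exact mem_subgroupOf.mpr ⟨hcQ, centralizer_le (Set.singleton_subset_iff.mpr (mem_zpowers y)) hc⟩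
    have hyQ : y ∈ pCore 2 X := h (mem_centralizer_iff.mpr fun q hq => by
      have := mem_subgroupOf.mp (hC ▸ mem_top (⟨q, hq⟩ : pCore 2 X))
      exact mem_centralizer_singleton_iff.mp this.2)
    obtain ⟨k, hk⟩ := hQp ⟨y, hyQ⟩
    exact LocalEvenA.eq_one_of_pPow_of_coprime (congrArg Subtype.val hk) hyo
  exact LocalEvenA.le_pCore_of_normal inferInstance hKp ((hmem x).mpr hx)

end Cfsg.Agent.ClassK
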