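import Mathlib
import Cfsg.Prelude.Def_Transfer

/-!
# Centralizers in extraspecial 2-groups
-/

set_option autoImplicit false

namespace Cfsg.Agent.ClassK

open Subgroup
open scoped commutatorElement

variable {Q : Type*} [Group Q]

theorem commutator_mem_center_of_special {p : ℕ} (h : IsSpecial p Q) (a b : Q) :
    a * b * a⁻¹ * b⁻¹ ∈ center Q := by
  rw [← h.2.2, ← commutatorElement_def, commutator_def]
  exact commutator_mem_commutator (mem_top a) (mem_top b)

/-- In an extraspecial 2-group a centralizer of an element has index at most two. -/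
theorem centralizer_index_le_two [Finite Q] (h : IsExtraspecial 2 Q) (r : Q) :
    (centralizer ({r} : Set Q)).index ≤ 2 := by
  let φ : Q →* center Q :=
    { toFun := fun c => ⟨c * r * c⁻¹ * r⁻¹, commutator_mem_center_of_special h.1 c r⟩
      map_one' := by ext; simp
      map_mul' := fun a b => by
        ext
        have hz := mem_center_iff.mp (commutator_mem_center_of_special h.1 b r) a
        show a * b * r * (a * b)⁻¹ * r⁻¹ = (a * r * a⁻¹ * r⁻¹) * (b * r * b⁻¹ * r⁻¹)
        calc a * b * r * (a * b)⁻¹ * r⁻¹ = a * (b * r * b⁻¹ * r⁻¹) * (r * a⁻¹ * r⁻¹) := by group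
          _ = (b * r * b⁻¹ * r⁻¹) * a * (r * a⁻¹ * r⁻¹) := by rw [hz]
          _ = (b * r * b⁻¹ * r⁻¹) * (a * r * a⁻¹ * r⁻¹) := by group
          _ = (a * r * a⁻¹ * r⁻¹) * (b * r * b⁻¹ * r⁻¹) :=
            (mem_center_iff.mp (commutator_mem_center_of_special h.1 b r) _).symm }
  have hker : φ.ker = centralizer ({r} : Set Q) := by
    ext c
    rw [MonoidHom.mem_ker, mem_centralizer_singleton_iff, Subtype.ext_iff]
    show c * r * c⁻¹ * r⁻¹ = 1 ↔ c * r = r * c
    rw [mul_inv_eq_one, mul_inv_eq_iff_eq_mul]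
  rw [← hker, index_ker]
  exact le_trans (Nat.le_of_dvd Nat.card_pos (card_subgroup_dvd_card φ.range)) h.2.le

theorem card_centralizer_mul_card [Finite Q] (h : IsExtraspecial 2 Q) :
    ∀ R : Subgroup Q, center Q ≤ R → Nat.card Q * 2 ≤ Nat.card (centralizer (R : Set Q)) * Nat.card R := by
  intro R hR
  classical
  obtain ⟨M, ⟨hZM, hMR, hM⟩, hmax⟩ := (Set.toFinite {M : Subgroup Q | center Q ≤ M ∧ M ≤ R ∧
      Nat.card Q * 2 ≤ Nat.card (centralizer (M : Set Q)) * Nat.card M}).exists_maximal
    ⟨center Q, le_rfl, hR, by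
      rw [h.2]
      refine Nat.mul_le_mul_right 2 (le_of_eq ?_)
      rw [show centralizer ((center Q : Subgroup Q) : Set Q) = ⊤ from eq_top_iff.mpr fun x _ =>
        mem_centralizer_iff.mpr fun z hz => (mem_center_iff.mp hz x).symm, card_top]⟩
  rcases eq_or_lt_of_le hMR with rfl | hlt
  · exact hM
  obtain ⟨r, hr, hrM⟩ := SetLike.exists_of_lt hlt
  exfalso
  set M' := M ⊔ zpowers r with hM'
  have hMM' : M ≤ M' := le_sup_left
  have hrM' : r ∈ M' := (le_sup_right : zpowers r ≤ M') (mem_zpowers r)
  refine hrM (hmax (y := M') ⟨hZM.trans hMM', sup_le hlt.le (zpowers_le.mpr hr), ?_⟩ hMM' hrM')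
  have h1 : 2 * Nat.card M ≤ Nat.card M' := by
    obtain ⟨k, hk⟩ := card_dvd_of_le hMM'
    rcases k with _ | _ | k
    · exact absurd hk (by rw [mul_zero]; exact Nat.card_pos.ne')
    · exact absurd (eq_of_le_of_card_ge hMM' (by simp [hk]))
        (fun he => hrM (he ▸ hrM'))
    · rw [hk, mul_comm 2]
      exact Nat.mul_le_mul_left _ (by omega)
  have h2 : Nat.card (centralizer (M : Set Q)) ≤ 2 * Nat.card (centralizer (M' : Set Q)) := by
    have hinf : centralizer (M : Set Q) ⊓ centralizer ({r} : Set Q) ≤ centralizer (M' : Set Q) := by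
      intro c hc
      rw [hM', mem_centralizer_iff]
      have : M ⊔ zpowers r ≤ centralizer ({c} : Set Q) := by
        refine sup_le (fun m hm => ?_) (zpowers_le.mpr ?_)
        · exact mem_centralizer_singleton_iff.mpr (mem_centralizer_iff.mp hc.1 m hm)
        · exact mem_centralizer_singleton_iff.mpr (mem_centralizer_singleton_iff.mp hc.2).symm
      exact fun m hm => mem_centralizer_singleton_iff.mp (this hm)
    have hri : (centralizer (M : Set Q) ⊓ centralizer ({r} : Set Q)).relIndex
        (centralizer (M : Set Q)) ≤ 2 := by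
      rw [inf_relIndex_left]
      haveI : (centralizer ({r} : Set Q)).Normal := Subgroup.Normal.of_commutator_le Q
        (h.1.2.2.le.trans (center_le_centralizer _))
      exact le_trans (Nat.le_of_dvd (Nat.pos_of_ne_zero index_ne_zero_of_finite)
        (relIndex_dvd_index_of_normal _ _)) (centralizer_index_le_two h r)
    have hc := relIndex_mul_relIndex ⊥ _ _ bot_le
      (inf_le_left : centralizer (M : Set Q) ⊓ centralizer ({r} : Set Q) ≤ _)
    rw [relIndex_bot_left, relIndex_bot_left] at hc
    rw [← hc, mul_comm 2]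
    exact Nat.mul_le_mul (Nat.le_of_dvd Nat.card_pos (card_dvd_of_le hinf)) hri
  calc Nat.card Q * 2 ≤ Nat.card (centralizer (M : Set Q)) * Nat.card M := hM
    _ ≤ 2 * Nat.card (centralizer (M' : Set Q)) * Nat.card M := Nat.mul_le_mul_right _ h2
    _ = Nat.card (centralizer (M' : Set Q)) * (2 * Nat.card M) := by ring
    _ ≤ _ := Nat.mul_le_mul_left _ h1

/-- An involutory automorphism of an extraspecial 2-group fixing a subgroup of index two is inner. -/
theorem exists_inner_of_index_two [Finite Q] (h : IsExtraspecial 2 Q) (α : Q ≃* Q)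
    (hα : ∀ x, α (α x) = x) {R : Subgroup Q} (hR : R.index = 2) (hfix : ∀ r ∈ R, α r = r)
    (hmoved : ∀ q, α q = q → q ∈ R) : ∃ c : Q, ∀ x, α x = c * x * c⁻¹ := by
  classical
  haveI : Fact (Nat.Prime 2) := ⟨Nat.prime_two⟩
  have hsq : ∀ x : Q, x * x ∈ R := fun x => mul_self_mem_of_index_two hR x
  have hRne : R ≠ ⊤ := fun h' => by rw [h', index_top] at hR; omega
  haveI : R.Normal := normal_of_index_eq_two hR
  have hZR : center Q ≤ R := by
    rw [← h.1.2.1]
    refine frattini_le_coatom ⟨hRne, fun S hS => ?_⟩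
    have hd := index_dvd_of_le hS.le
    rw [hR] at hd
    rcases (Nat.dvd_prime Nat.prime_two).mp hd with h1 | h1
    · exact index_eq_one.mp h1
    · exfalso
      have := relIndex_mul_index hS.le
      rw [h1, hR] at this
      exact hS.ne (le_antisymm hS.le (relIndex_eq_one.mp (by omega)))
  obtain ⟨q, hq⟩ : ∃ q, q ∉ R := by
    by_contra hcon
    exact hRne (eq_top_iff.mpr fun x _ => not_not.mp (fun hx => hcon ⟨x, hx⟩))
  have hmem : ∀ x, x ∈ R ∨ q⁻¹ * x ∈ R := by
    intro x
    by_cases hx : x ∈ R
    · exact Or.inl hx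
    · right
      rw [mul_mem_iff_of_index_two hR, inv_mem_iff]
      simp [hq, hx]
  set d := q⁻¹ * α q with hd
  have hαq : α q = q * d := by rw [hd, mul_inv_cancel_left]
  have hdR' : ∀ r ∈ R, Commute d r := by
    intro r hr
    have h1 : α (q * r * q⁻¹) = q * r * q⁻¹ := hfix _ (‹R.Normal›.conj_mem r hr q)
    rw [map_mul, map_mul, map_inv, hfix r hr, hαq] at h1
    show d * r = r * d
    calc d * r = q⁻¹ * (q * d * r * (q * d)⁻¹) * q * d := by group
      _ = r * d := by rw [h1]; group
  have hcen : ∀ x : Q, (∀ r ∈ R, Commute x r) → Commute x q → x ∈ center Q := by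
    intro x hx hxq
    rw [mem_center_iff]
    intro y
    rcases hmem y with hy | hy
    · exact (hx y hy).eq.symm
    · have := hxq.mul_right (hx _ hy)
      rw [mul_inv_cancel_left] at this
      exact this.eq.symm
  have hdR : d ∈ R := by
    by_contra hdn
    apply hdn
    refine hZR (hcen d hdR' ?_)
    rcases hmem d with h' | h'
    · exact absurd h' hdn
    · have h1 : Commute d (q⁻¹ * d) := hdR' _ h'
      have h2 : Commute d ((q⁻¹ * d) * d⁻¹) := h1.mul_right (Commute.refl d).inv_right
      rw [mul_inv_cancel_right] at h2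
      simpa using h2.inv_right
  have hd2 : d * d = 1 := by
    have := hα q
    rw [hαq, map_mul, hαq, hfix d hdR] at this
    simpa [mul_assoc] using this
  have hcom2 : ∀ a b : Q, a * b = b * a ∨ ∀ z ∈ center Q, z ≠ 1 → a * b * a⁻¹ * b⁻¹ = z := by
    intro a b
    by_cases hab : a * b = b * a
    · exact Or.inl hab
    · refine Or.inr fun z hz hz1 => ?_
      have hne : a * b * a⁻¹ * b⁻¹ ≠ 1 := by
        rwa [Ne, mul_inv_eq_one, mul_inv_eq_iff_eq_mul]
      by_contra hne'
      have h3 : ({1, ⟨z, hz⟩, ⟨_, commutator_mem_center_of_special h.1 a b⟩} :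
          Finset (center Q)).card = 3 := by
        rw [Finset.card_eq_three]
        exact ⟨_, _, _, by simp [Subtype.ext_iff, Ne.symm hz1], by simp [Subtype.ext_iff, Ne.symm hne],
          by simp [Subtype.ext_iff, Ne.symm hne'], rfl⟩
      haveI := Fintype.ofFinite (center Q)
      have h4 := Finset.card_le_univ ({1, ⟨z, hz⟩, ⟨_, commutator_mem_center_of_special h.1 a b⟩} :
          Finset (center Q))
      rw [h3, ← Nat.card_eq_fintype_card, h.2] at h4
      omega
  have hdZ : d ∈ center Q := by
    by_contra hdn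
    rcases hcom2 d q with hc | hc
    · exact hdn (hcen d hdR' hc)
    · haveI : Nontrivial (center Q) := Finite.one_lt_card_iff_nontrivial.mp (by rw [h.2]; omega)
      obtain ⟨⟨z, hz⟩, hz1⟩ := exists_ne (1 : center Q)
      have hzc := hc z hz (fun e => hz1 (Subtype.ext e))
      -- squares
      have h1 : q * d * (q * d) = q * q := by
        have := hfix _ (hsq q)
        rwa [map_mul, hαq] at this
      have h2 : d * q = q * d := by
        have h3 : d * q * d = q := by
          have := congrArg (fun w => q⁻¹ * w) h1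
          simpa [mul_assoc] using this
        calc d * q = d * q * d * d := by rw [mul_assoc (d * q), hd2, mul_one]
          _ = q * d := by rw [h3]
      exact hdn (hcen d hdR' h2)
  have hd1 : d ≠ 1 := fun h1 => hq (hmoved q (by rw [hαq, h1, mul_one]))
  -- an element outside the centre centralizing `R`
  obtain ⟨c, hc, hcZ⟩ : ∃ c, c ∈ centralizer (R : Set Q) ∧ c ∉ center Q := by
    by_contra hcon
    push_neg at hcon
    have hle : centralizer (R : Set Q) ≤ center Q := fun x hx => hcon x hx
    have h1 := card_centralizer_mul_card h R hZR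
    have h2 := Nat.le_of_dvd Nat.card_pos (card_dvd_of_le hle)
    rw [h.2] at h2
    have h3 : Nat.card R * 2 = Nat.card Q := by
      have := card_mul_index R
      rwa [hR] at this
    have h4 : 0 < Nat.card R := Nat.card_pos
    have := Nat.mul_le_mul_right (Nat.card R) h2
    omega
  have hcR : ∀ r ∈ R, Commute c r := fun r hr => (mem_centralizer_iff.mp hc r hr).symm
  refine ⟨c, fun x => ?_⟩
  have hcq : c * q * c⁻¹ = q * d := by
    rcases hcom2 c q with hc' | hc'
    · exact absurd (hcen c hcR hc') hcZ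
    · have := hc' d hdZ hd1
      calc c * q * c⁻¹ = (c * q * c⁻¹ * q⁻¹) * q := by group
        _ = d * q := by rw [this]
        _ = q * d := (mem_center_iff.mp hdZ q).symm
  rcases hmem x with hx | hx
  · rw [hfix x hx, (hcR x hx).eq, mul_inv_cancel_right]
  · obtain ⟨r, hr, rfl⟩ : ∃ r ∈ R, x = q * r := ⟨_, hx, (mul_inv_cancel_left q x).symm⟩
    rw [map_mul, hαq, hfix r hr, ← hcq]
    calc c * q * c⁻¹ * r = c * q * (c⁻¹ * r) := by group
      _ = c * q * (r * c⁻¹) := by rw [(hcR r hr).inv_left.eq]
      _ = c * (q * r) * c⁻¹ := by group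

end Cfsg.Agent.ClassK
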