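import Cfsg.Agent.Lib.ClassK.FischerRankThree
import Cfsg.Agent.Lib.Components.Signalizer
import Cfsg.Agent.Lib.Basics.Tools
import Cfsg.Agent.S0144
import Cfsg.Agent.S1618

/-!
# Fischer's hypotheses give a simple derived group

A group generated by a class of 3-transpositions with no solvable normal subgroup has a unique
minimal normal subgroup, a simple group; with perfect derived group it is the derived group.
-/

set_option autoImplicit false

namespace Cfsg.Agent.ClassK.Fischer

open scoped commutatorElement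

universe u

variable {G : Type u} [Group G] [Finite G] {D : Set G}

theorem conj_mem_class (hD : Cfsg.IsThreeTranspositionClass D) (g : G) {x : G} (hx : x ∈ D) :
    g * x * g⁻¹ ∈ D := by
  obtain ⟨d, -, hd⟩ := hD.2.1
  rw [hd] at hx ⊢
  obtain ⟨c, rfl⟩ := isConj_iff.1 hx
  exact isConj_iff.2 ⟨g * c, by group⟩

theorem not_centralizes (hsol : ∀ N : Subgroup G, N.Normal → Group.IsSolvable ↥N → N = ⊥)
    (hD : Cfsg.IsThreeTranspositionClass D) {N : Subgroup G} [N.Normal] (hN : N ≠ ⊥) {x : G} (hx : x ∈ D) :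
    ∃ t ∈ N, ¬ Commute x t := by
  by_contra hh
  push Not at hh
  obtain ⟨d, hdD, hd⟩ := hD.2.1
  have hle : (⊤ : Subgroup G) ≤ Subgroup.centralizer (N : Set G) := by
    rw [← hD.2.2, Subgroup.closure_le]
    intro y hy
    rw [hd] at hx hy
    obtain ⟨c, rfl⟩ := isConj_iff.1 ((show IsConj d x from hx).symm.trans hy)
    refine (Subgroup.centralizer (N : Set G)).toSubmonoid.mem_carrier.1 ?_
    exact (inferInstance : (Subgroup.centralizer (N : Set G)).Normal).conj_mem x
      (Subgroup.mem_centralizer_iff.2 fun t ht => (hh t ht).eq.symm) c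
  apply hN
  refine hsol N inferInstance ?_
  exact Group.isSolvable_of_comm fun a b => Subtype.ext
    (Subgroup.mem_centralizer_iff.1 (hle (Subgroup.mem_top (a : G))) b b.2).symm

theorem eq_bot_of_solvable_normal (hsol : ∀ N : Subgroup G, N.Normal → Group.IsSolvable ↥N → N = ⊥)
    {T : Subgroup G} [T.Normal] {S : Subgroup G} (hST : S ≤ T) (hn : T ≤ Subgroup.normalizer (S : Set G))
    (hS : Group.IsSolvable ↥S) : S = ⊥ := by
  let 𝒮 : Set (Subgroup G) := {R | R ≤ T ∧ T ≤ Subgroup.normalizer (R : Set G) ∧ Group.IsSolvable ↥R}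
  obtain ⟨R, hSR, hR⟩ := (Set.toFinite 𝒮).exists_le_maximal (show S ∈ 𝒮 from ⟨hST, hn, hS⟩)
  have hgreat : ∀ R' ∈ 𝒮, R' ≤ R := by
    intro R' hR'
    refine le_trans le_sup_right (hR.2 (y := R ⊔ R') ⟨sup_le hR.1.1 hR'.1, ?_, ?_⟩ le_sup_left)
    · intro t ht
      rw [Subgroup.mem_normalizer_iff]
      have key : ∀ t ∈ T, ∀ h ∈ R ⊔ R', t * h * t⁻¹ ∈ R ⊔ R' := by
        intro t ht h hh
        have hle : R ⊔ R' ≤ (R ⊔ R').comap (MulAut.conj t).toMonoidHom := sup_le
          (fun r hr => Subgroup.mem_sup_left ((Subgroup.mem_normalizer_iff.1 (hR.1.2.1 ht) r).1 hr))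
          (fun r hr => Subgroup.mem_sup_right ((Subgroup.mem_normalizer_iff.1 (hR'.2.1 ht) r).1 hr))
        exact hle hh
      refine fun h => ⟨key t ht h, fun hh => ?_⟩
      have := key t⁻¹ (inv_mem ht) _ hh
      rwa [show t⁻¹ * (t * h * t⁻¹) * t⁻¹⁻¹ = h by group] at this
    · exact Components.isSolvable_sup (hR'.1.trans hR.1.2.1) hR.1.2.2 hR'.2.2
  have hnorm : R.Normal := ⟨fun r hr g => by
    have hmem : R.map (MulAut.conj g).toMonoidHom ∈ 𝒮 := by
      refine ⟨?_, ?_, ?_⟩
      · rintro _ ⟨s, hs, rfl⟩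
        exact (inferInstance : T.Normal).conj_mem s (hR.1.1 hs) g
      · intro t ht
        rw [Subgroup.mem_normalizer_iff]
        have ht' : g⁻¹ * t * g ∈ T := by
          have := (inferInstance : T.Normal).conj_mem t ht g⁻¹
          rwa [inv_inv] at this
        intro h
        have e := Subgroup.mem_normalizer_iff.1 (hR.1.2.1 ht') (g⁻¹ * h * g)
        rw [Subgroup.mem_map_equiv, Subgroup.mem_map_equiv]
        simp only [MulAut.conj_symm_apply]
        refine e.trans (iff_of_eq (congrArg (· ∈ R) ?_))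
        group
      · haveI := hR.1.2.2
        exact Group.isSolvable_of_surjective (f := (MulAut.conj g).toMonoidHom.subgroupMap R)
          (MonoidHom.subgroupMap_surjective _ _)
    exact hgreat _ hmem ⟨r, hr, rfl⟩⟩
  exact le_bot_iff.1 (hSR.trans (hsol R hnorm hR.1.2.2).le)

theorem isSimple_minimal (hsol : ∀ N : Subgroup G, N.Normal → Group.IsSolvable ↥N → N = ⊥)
    (hD : Cfsg.IsThreeTranspositionClass D) {T : Subgroup G} [T.Normal] (hT : T ≠ ⊥)
    (hmin : ∀ K : Subgroup G, K.Normal → K ≤ T → K ≠ ⊥ → K = T) : IsSimpleGroup ↥T := by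
  obtain ⟨S, ⟨hST, hSn, hSb⟩, hSmin⟩ := (Set.toFinite
    {S : Subgroup G | S ≤ T ∧ T ≤ Subgroup.normalizer (S : Set G) ∧ S ≠ ⊥}).exists_minimal
    ⟨T, le_rfl, Subgroup.le_normalizer, hT⟩
  have hnormD : ∀ d ∈ D, ∀ s ∈ S, d * s * d⁻¹ ∈ S := by
    by_contra hh
    push Not at hh
    obtain ⟨d, hd, s₁, hs₁, hns⟩ := hh
    let f := (MulAut.conj d).toMonoidHom
    have hcomm : ∀ a ∈ S, ∀ b ∈ S.map f, Commute a b := by
      intro a ha b hb
      have hbT : b ∈ T := by
        obtain ⟨c, hc, rfl⟩ := hb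
        exact (inferInstance : T.Normal).conj_mem c (hST hc) d
      have hn' : ∀ t ∈ T, ∀ z ∈ S.map f, t * z * t⁻¹ ∈ S.map f := by
        rintro t ht _ ⟨c, hc, rfl⟩
        have ht' : d⁻¹ * t * d ∈ T := by
          have := (inferInstance : T.Normal).conj_mem t ht d⁻¹
          rwa [inv_inv] at this
        refine ⟨_, (Subgroup.mem_normalizer_iff.1 (hSn ht') c).1 hc, ?_⟩
        show d * _ * d⁻¹ = t * (d * c * d⁻¹) * t⁻¹
        group
      have hcm : ⁅a, b⁆ ∈ S ⊓ S.map f := by
        rw [commutatorElement_def]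
        refine Subgroup.mem_inf.2 ⟨?_, mul_mem (hn' a (hST ha) b hb) (inv_mem hb)⟩
        rw [show a * b * a⁻¹ * b⁻¹ = a * (b * a⁻¹ * b⁻¹) by group]
        exact mul_mem ha ((Subgroup.mem_normalizer_iff.1 (hSn hbT) a⁻¹).1 (inv_mem ha))
      have hbot : S ⊓ S.map f = ⊥ := by
        by_contra hne
        have hle := hSmin (y := S ⊓ S.map f) ⟨inf_le_left.trans hST, fun t ht => Subgroup.mem_normalizer_iff.2
          fun h => ⟨fun hh => ⟨(Subgroup.mem_normalizer_iff.1 (hSn ht) h).1 hh.1, hn' t ht h hh.2⟩,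
            fun hh => ⟨(Subgroup.mem_normalizer_iff.1 (hSn ht) h).2 hh.1, by
              have := hn' t⁻¹ (inv_mem ht) _ hh.2
              rwa [show t⁻¹ * (t * h * t⁻¹) * t⁻¹⁻¹ = h by group] at this⟩⟩, hne⟩ inf_le_left
        have hSf : S ≤ S.map f := hle.trans inf_le_right
        have hEq : S = S.map f := Subgroup.eq_of_le_of_card_ge hSf
          (le_of_eq (Subgroup.card_map_of_injective (MulAut.conj d).injective))
        exact hns (by rw [hEq]; exact ⟨s₁, hs₁, rfl⟩)
      rw [hbot, Subgroup.mem_bot, commutatorElement_eq_one_iff_commute] at hcm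
      exact hcm
    have hbot : ∀ z, z ∈ S → z ∈ S.map f → z = 1 := by
      intro z hz hz'
      by_contra hz1
      have hc : ∀ a ∈ S, Commute a z := fun a ha => hcomm a ha z hz'
      have hZ : S ⊓ Subgroup.centralizer (S : Set G) ≠ ⊥ := fun e => hz1 (Subgroup.mem_bot.1 (e ▸
        ⟨hz, Subgroup.mem_centralizer_iff.2 fun a ha => (hc a ha).eq⟩))
      refine hZ (eq_bot_of_solvable_normal hsol (inf_le_left.trans hST) (fun t ht => ?_) ?_)
      · have key : ∀ t ∈ T, ∀ h ∈ S ⊓ Subgroup.centralizer (S : Set G),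
            t * h * t⁻¹ ∈ S ⊓ Subgroup.centralizer (S : Set G) := by
          intro t ht h hh
          refine ⟨(Subgroup.mem_normalizer_iff.1 (hSn ht) h).1 hh.1, Subgroup.mem_centralizer_iff.2 fun a ha => ?_⟩
          have ha' : t⁻¹ * a * t⁻¹⁻¹ ∈ S := (Subgroup.mem_normalizer_iff.1 (hSn (inv_mem ht)) a).1 ha
          have e := Subgroup.mem_centralizer_iff.1 hh.2 _ ha'
          calc a * (t * h * t⁻¹) = t * ((t⁻¹ * a * t⁻¹⁻¹) * h) * t⁻¹ := by group
            _ = t * (h * (t⁻¹ * a * t⁻¹⁻¹)) * t⁻¹ := by rw [e]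
            _ = t * h * t⁻¹ * a := by group
        refine Subgroup.mem_normalizer_iff.2 fun h => ⟨key t ht h, fun hh => ?_⟩
        have := key t⁻¹ (inv_mem ht) _ hh
        rwa [show t⁻¹ * (t * h * t⁻¹) * t⁻¹⁻¹ = h by group] at this
      · exact Group.isSolvable_of_comm fun a b => Subtype.ext
          (Subgroup.mem_centralizer_iff.1 b.2.2 a a.2.1)
    have hexp : ∀ s ∈ S, s ^ 2 = 1 ∨ s ^ 3 = 1 := by
      intro s hs
      have hb : d * s * d⁻¹ ∈ S.map f := ⟨s, hs, rfl⟩
      have hc : Commute (d * s * d⁻¹) s⁻¹ := (hcomm s⁻¹ (inv_mem hs) _ hb).symm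
      have hu : d * (s * d * s⁻¹) = (d * s * d⁻¹) * s⁻¹ := by
        have e := tt_mul_self hD.1 hd
        rw [show d⁻¹ = d from tt_inv hD.1 hd]; group
      have hn : ∀ n : ℕ, (d * (s * d * s⁻¹)) ^ n = 1 → s ^ n = 1 := by
        intro n h
        rw [hu, hc.mul_pow, inv_pow, mul_inv_eq_one] at h
        exact hbot _ (pow_mem hs n) (h ▸ pow_mem hb n)
      rcases hD.1.2 d hd _ (conj_mem_class hD s hd) with h | h
      · exact Or.inl (hn 2 h)
      · exact Or.inr (hn 3 h)
    have hsolS : Group.IsSolvable ↥S := by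
      have hfac : ∀ r : ℕ, r.Prime → r ∣ Nat.card S → r = 2 ∨ r = 3 := by
        intro r hr hdvd
        haveI := Fact.mk hr
        obtain ⟨z, hz⟩ := exists_prime_orderOf_dvd_card' (G := S) r hdvd
        rw [← Subgroup.orderOf_coe] at hz
        rcases hexp z z.2 with h | h
        · exact Or.inl ((Nat.prime_dvd_prime_iff_eq hr Nat.prime_two).1 (hz ▸ orderOf_dvd_of_pow_eq_one h))
        · exact Or.inr ((Nat.prime_dvd_prime_iff_eq hr Nat.prime_three).1 (hz ▸ orderOf_dvd_of_pow_eq_one h))
      have hn0 : Nat.card S ≠ 0 := Nat.card_pos.ne'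
      refine S0144.result 2 3 ((Nat.card S).factorization 2) ((Nat.card S).factorization 3) Nat.prime_two Nat.prime_three ?_
      refine Nat.eq_of_factorization_eq hn0 (by positivity) fun r => ?_
      rw [Nat.factorization_mul (by positivity) (by positivity), Nat.factorization_pow, Nat.factorization_pow,
        Nat.prime_two.factorization, Nat.prime_three.factorization]
      by_cases h2 : r = 2
      · subst h2; simp
      by_cases h3 : r = 3
      · subst h3; simp
      have : (Nat.card S).factorization r = 0 := by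
        rw [Nat.factorization_eq_zero_iff]
        by_cases hr : r.Prime
        · exact Or.inr (Or.inl fun e => (hfac r hr e).elim h2 h3)
        · exact Or.inl hr
      simp [this, h2, h3]
    exact hSb (eq_bot_of_solvable_normal hsol hST hSn hsolS)
  have hSnorm : S.Normal := by
    refine ⟨fun s hs g => ?_⟩
    have hg : g ∈ Subgroup.closure D := hD.2.2 ▸ Subgroup.mem_top g
    induction hg using Subgroup.closure_induction generalizing s with
    | mem y hy => exact hnormD y hy s hs
    | one => simpa using hs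
    | mul a b _ _ iha ihb => rw [show a * b * s * (a * b)⁻¹ = a * (b * s * b⁻¹) * a⁻¹ by group]; exact iha _ (ihb _ hs)
    | inv a _ iha =>
      have hmap : S.map (MulAut.conj a).toMonoidHom = S := Subgroup.eq_of_le_of_card_ge
        (by rintro _ ⟨z, hz, rfl⟩; exact iha z hz)
        (le_of_eq (Subgroup.card_map_of_injective (MulAut.conj a).injective).symm)
      rw [← hmap, Subgroup.mem_map_equiv] at hs
      simpa using hs
  have hSeq : S = T := hmin S hSnorm hST hSb
  subst hSeq
  haveI : Nontrivial ↥S := (Subgroup.nontrivial_iff_ne_bot S).2 hT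
  refine ⟨fun K hK => ?_⟩
  by_cases hKb : K = ⊥
  · exact Or.inl hKb
  right
  have hmapb : K.map S.subtype ≠ ⊥ := fun e => hKb ((Subgroup.map_eq_bot_iff_of_injective K S.subtype_injective).1 e)
  have hle : S ≤ K.map S.subtype := hSmin ⟨Subgroup.map_subtype_le K, fun t ht => Subgroup.mem_normalizer_iff.2 fun h => by
    constructor
    · rintro ⟨k, hk, rfl⟩
      exact ⟨⟨t, ht⟩ * k * ⟨t, ht⟩⁻¹, hK.conj_mem k hk _, rfl⟩
    · rintro ⟨k, hk, e⟩
      refine ⟨⟨t, ht⟩⁻¹ * k * ⟨t, ht⟩, by simpa using hK.conj_mem k hk ⟨t, ht⟩⁻¹, ?_⟩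
      show t⁻¹ * S.subtype k * t = h
      rw [e]; group, hmapb⟩ (Subgroup.map_subtype_le K)
  rw [eq_top_iff]
  intro z _
  obtain ⟨k, hk, e⟩ := hle z.2
  exact Subtype.ext e ▸ hk

/-- With perfect derived group, the derived group is simple. -/
theorem setup_of_fischer (hsol : ∀ N : Subgroup G, N.Normal → Group.IsSolvable ↥N → N = ⊥)
    (hperf : ⁅commutator G, commutator G⁆ = commutator G) (hD : Cfsg.IsThreeTranspositionClass D) :
    Setup D := by
  obtain ⟨d, hdD, hd⟩ := hD.2.1
  have hGne : commutator G ≠ ⊥ := by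
    intro e
    have hs : Group.IsSolvable ↥(⊤ : Subgroup G) := Group.isSolvable_of_comm fun a b => Subtype.ext (by
      have h : ⁅(a : G), (b : G)⁆ ∈ commutator G := by
        rw [commutator_def]; exact Subgroup.commutator_mem_commutator a.2 b.2
      rw [e, Subgroup.mem_bot, commutatorElement_eq_one_iff_commute] at h
      exact h.eq)
    have h1 := hsol ⊤ inferInstance hs
    have h2 : d = 1 := Subgroup.mem_bot.1 (h1 ▸ Subgroup.mem_top d)
    have h3 := hD.1.1 d hdD
    rw [h2, orderOf_one] at h3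
    omega
  obtain ⟨T, ⟨hTn, hTle, hTb⟩, hTmin⟩ := (Set.toFinite
    {K : Subgroup G | K.Normal ∧ K ≤ commutator G ∧ K ≠ ⊥}).exists_minimal ⟨_, inferInstance, le_rfl, hGne⟩
  haveI := hTn
  have hmin : ∀ K : Subgroup G, K.Normal → K ≤ T → K ≠ ⊥ → K = T := fun K hK hle hb =>
    le_antisymm hle (hTmin ⟨hK, hle.trans hTle, hb⟩ hle)
  have hTs := isSimple_minimal hsol hD hTb hmin
  have hna : ∃ a b : ↥T, a * b ≠ b * a := by
    by_contra hh
    push Not at hh
    exact hTb (hsol T inferInstance (Group.isSolvable_of_comm hh))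
  suffices hGT : commutator G ≤ T by
    have e : T = commutator G := le_antisymm hTle hGT
    subst e
    exact ⟨hD, hTs, hna⟩
  -- products of members are 3-elements modulo `T`
  have hcube : ∀ x ∈ D, ∀ y ∈ D, x * y ∈ T ∨ (x * y) ^ 3 = 1 := by
    intro x hx y hy
    rcases hD.1.2 x hx y hy with h2 | h3
    swap
    · exact Or.inr h3
    by_contra hh
    rw [not_or] at hh
    have hall : ∀ t ∈ T, Commute y (t * x * t⁻¹) := by
      intro t ht
      have hmem : t * x * t⁻¹ ∈ D := conj_mem_class hD t hx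
      rcases hD.1.2 y hy _ hmem with h | h
      · exact (tt_commute_iff hD.1 hy hmem).2 h
      · exfalso
        apply hh.1
        let π := QuotientGroup.mk' T
        have ht1 : π t = 1 := (QuotientGroup.eq_one_iff t).2 ht
        have e3 : (π y * π x) ^ 3 = 1 := by
          have := congrArg π h
          simpa [map_pow, map_mul, ht1] using this
        have hxy2 : (π x * π y) ^ 2 = 1 := by rw [← map_mul, ← map_pow, h2, map_one]
        have hx2 : π x * π x = 1 := by rw [← map_mul, tt_mul_self hD.1 hx, map_one]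
        have hy2 : π y * π y = 1 := by rw [← map_mul, tt_mul_self hD.1 hy, map_one]
        have eyx : π y * π x = π x * π y := by
          have := tt_commute_iff hD.1 hx hy |>.2 h2
          rw [← map_mul, ← map_mul, this.eq]
        rw [eyx, pow_succ, hxy2, one_mul] at e3
        exact (QuotientGroup.eq_one_iff _).1 ((map_mul π x y).trans e3)
    let N : Subgroup G := T ⊓ Subgroup.centralizer ({y} : Set G)
    have hNmem : ∀ t ∈ T, t * x * t⁻¹ * x⁻¹ ∈ N := fun t ht => by
      refine ⟨?_, Subgroup.mem_centralizer_singleton_iff.2 ?_⟩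
      · rw [show t * x * t⁻¹ * x⁻¹ = t * (x * t⁻¹ * x⁻¹) by group]
        exact mul_mem ht (hTn.conj_mem _ (inv_mem ht) x)
      · exact ((hall t ht).mul_right ((tt_commute_iff hD.1 hy hx).2 (by
          have := h2
          rw [← tt_commute_iff hD.1 hx hy] at this
          exact (tt_commute_iff hD.1 hy hx).1 this.symm)).inv_right).eq.symm
    let K : Subgroup G := Subgroup.closure {z | ∃ t ∈ T, z = t * x * t⁻¹ * x⁻¹}
    have hKT : K ≤ T := (Subgroup.closure_le T).2 fun z ⟨t, ht, e⟩ => e ▸ (hNmem t ht).1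
    have hKy : K ≤ Subgroup.centralizer ({y} : Set G) :=
      (Subgroup.closure_le _).2 fun z ⟨t, ht, e⟩ => e ▸ (hNmem t ht).2
    have hKn : (K.subgroupOf T).Normal := ⟨fun k hk s => by
      rw [Subgroup.mem_subgroupOf] at hk ⊢
      show (s : G) * k * (s : G)⁻¹ ∈ K
      have hcl : ∀ z ∈ {z | ∃ t ∈ T, z = t * x * t⁻¹ * x⁻¹}, (s : G) * z * (s : G)⁻¹ ∈ K := by
        rintro z ⟨t, ht, rfl⟩
        have e : (s : G) * (t * x * t⁻¹ * x⁻¹) * (s : G)⁻¹ =
            ((s * t : G) * x * (s * t : G)⁻¹ * x⁻¹) * ((s : G) * x * (s : G)⁻¹ * x⁻¹)⁻¹ := by group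
        rw [e]
        exact mul_mem (Subgroup.subset_closure ⟨_, mul_mem s.2 ht, rfl⟩)
          (inv_mem (Subgroup.subset_closure ⟨_, s.2, rfl⟩))
      have : K ≤ K.comap (MulAut.conj (s : G)).toMonoidHom := (Subgroup.closure_le _).2 hcl
      exact this hk⟩
    rcases hKn.eq_bot_or_eq_top with e | e
    · obtain ⟨t, ht, hnc⟩ := not_centralizes hsol hD hTb hx
      apply hnc
      have hz : (⟨_, (hNmem t ht).1⟩ : ↥T) ∈ K.subgroupOf T := Subgroup.subset_closure ⟨t, ht, rfl⟩
      rw [e, Subgroup.mem_bot] at hz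
      have := congrArg Subtype.val hz
      simp only [Subgroup.coe_one, mul_inv_eq_one] at this
      exact (mul_inv_eq_iff_eq_mul.1 this).symm
    · obtain ⟨t, ht, hnc⟩ := not_centralizes hsol hD hTb hy
      exact hnc (Subgroup.mem_centralizer_singleton_iff.1 (hKy (Subgroup.subgroupOf_eq_top.1 e ht))).symm
  by_cases hdT : d ∈ T
  · have : (⊤ : Subgroup G) ≤ T := by
      rw [← hD.2.2, Subgroup.closure_le]
      intro z hz
      rw [hd] at hz
      obtain ⟨c, rfl⟩ := isConj_iff.1 hz
      exact hTn.conj_mem d hdT c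
    exact le_top.trans this
  let π := QuotientGroup.mk' T
  have hnotT : ∀ x ∈ D, x ∉ T := fun x hx hxT => by
    rw [hd] at hx
    obtain ⟨c, rfl⟩ := isConj_iff.1 hx
    have := hTn.conj_mem _ hxT c⁻¹
    rw [show c⁻¹ * (c * d * c⁻¹) * c⁻¹⁻¹ = d by group] at this
    exact hdT this
  have hnil : Group.IsNilpotent ↥(commutator (G ⧸ T)) := by
    refine S1618.result 3 Nat.prime_three (by norm_num) (D := π '' D) ?_ ⟨π d, ⟨d, hdD, rfl⟩, ?_⟩ ?_ ?_
    · rintro _ ⟨x, hx, rfl⟩
      exact orderOf_eq_prime (by rw [pow_two, ← map_mul, tt_mul_self hD.1 hx, map_one])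
        fun e => hnotT x hx ((QuotientGroup.eq_one_iff x).1 e)
    · ext z
      constructor
      · rintro ⟨x, hx, rfl⟩
        rw [hd] at hx
        exact (π.map_isConj hx : IsConj (π d) (π x))
      · intro hz
        obtain ⟨c, rfl⟩ := isConj_iff.1 hz
        obtain ⟨g, rfl⟩ := QuotientGroup.mk'_surjective T c
        exact ⟨g * d * g⁻¹, conj_mem_class hD g hdD, by simp [π]⟩
    · rw [← MonoidHom.map_closure, hD.2.2, Subgroup.map_top_of_surjective _ (QuotientGroup.mk'_surjective T)]
    · rintro _ ⟨x, hx, rfl⟩ _ ⟨y, hy, rfl⟩ hne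
      rcases hcube x hx y hy with h | h
      · exfalso
        apply hne
        have h1 : π x * π y = 1 := by rw [← map_mul]; exact (QuotientGroup.eq_one_iff _).2 h
        rw [mul_eq_one_iff_eq_inv] at h1
        rw [h1, ← map_inv, tt_inv hD.1 hy]
      · obtain ⟨k, -, hk⟩ := (Nat.dvd_prime_pow Nat.prime_three).1
          (show orderOf (π x * π y) ∣ 3 ^ 1 from orderOf_dvd_of_pow_eq_one (by
            rw [pow_one, ← map_mul, ← map_pow, h, map_one]))
        exact ⟨k, hk⟩
  have hmap : commutator (G ⧸ T) = (commutator G).map π := by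
    rw [commutator_def, commutator_def, Subgroup.map_commutator,
      Subgroup.map_top_of_surjective _ (QuotientGroup.mk'_surjective T)]
  have hperfQ : ⁅commutator (G ⧸ T), commutator (G ⧸ T)⁆ = commutator (G ⧸ T) := by
    rw [hmap, ← Subgroup.map_commutator, hperf]
  have hbot : commutator (G ⧸ T) = ⊥ := by
    by_contra hne
    haveI : Nontrivial ↥(commutator (G ⧸ T)) := (Subgroup.nontrivial_iff_ne_bot _).2 hne
    have hlt := Group.IsSolvable.commutator_lt_top_of_nontrivial ↥(commutator (G ⧸ T))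
    apply hlt.ne
    apply Subgroup.map_injective (commutator (G ⧸ T)).subtype_injective
    rw [commutator_def (G := ↥(commutator (G ⧸ T))), Subgroup.map_commutator, ← MonoidHom.range_eq_map,
      Subgroup.range_subtype, hperfQ]
  intro z hz
  refine (QuotientGroup.eq_one_iff z).1 ?_
  have : π z ∈ commutator (G ⧸ T) := hmap ▸ Subgroup.mem_map_of_mem π hz
  rwa [hbot, Subgroup.mem_bot] at this

end Cfsg.Agent.ClassK.Fischer
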