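import Cfsg.Agent.Lib.ClassK.FischerRankThree

/-!
# Transitivity on commuting sets

The members commuting with a member form one noncommuting component, and the stabiliser of a largest
commuting set is 2-transitive on it.
-/

set_option autoImplicit false

namespace Cfsg.Agent.ClassK.Fischer

universe u

variable {G : Type u} [Group G] {D : Set G}

/-- The members commuting with `x`, other than `x`. -/
def commSet (D : Set G) (x : G) : Set G := {y | y ∈ D ∧ y ≠ x ∧ Commute x y}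

/-- One step between noncommuting members of `commSet D x`. -/
def stepRel (D : Set G) (x : G) (a b : G) : Prop := a ∈ commSet D x ∧ b ∈ commSet D x ∧ ¬ Commute a b

/-- The component of `u` among the members commuting with `x`. -/
def comp (D : Set G) (x u : G) : Set G := {v | Relation.ReflTransGen (stepRel D x) u v}

theorem comp_subset {x u : G} (hu : u ∈ commSet D x) : comp D x u ⊆ commSet D x := by
  intro v hv
  induction hv with
  | refl => exact hu
  | tail _ h2 _ => exact h2.2.1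

theorem comp_symm {x u v : G} (h : v ∈ comp D x u) : u ∈ comp D x v := by
  induction h with
  | refl => exact .refl
  | tail _ h2 ih => exact .head ⟨h2.2.1, h2.1, fun e => h2.2.2 e.symm⟩ ih

theorem commSet_conj (h : Setup D) (g x : G) {y : G} (hy : y ∈ commSet D x) :
    g * y * g⁻¹ ∈ commSet D (g * x * g⁻¹) :=
  ⟨conj_mem h g hy.1, fun e => hy.2.1 (conj_injective g e), (commute_conj_iff g x y).2 hy.2.2⟩

theorem comp_conj (h : Setup D) (g x u : G) {v : G} (hv : v ∈ comp D x u) :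
    g * v * g⁻¹ ∈ comp D (g * x * g⁻¹) (g * u * g⁻¹) :=
  hv.lift (fun z => g * z * g⁻¹)
    fun _ _ e => ⟨commSet_conj h g x e.1, commSet_conj h g x e.2.1, (commute_conj_iff g _ _).not.2 e.2.2⟩

variable [Finite G]

theorem card_comp (h : Setup D) {x y u v : G} (hx : x ∈ D) (hy : y ∈ D) (hu : u ∈ commSet D x)
    (hv : v ∈ commSet D y) : (comp D x u).ncard ≤ (comp D y v).ncard := by
  obtain ⟨g, hg⟩ := exists_conj h hx hy
  have hgu := commSet_conj h g x hu
  rw [hg] at hgu
  obtain ⟨k, hk, hkv⟩ := (rank_three h hy).1 _ hgu.1 v hv.1 hgu.2.1 hv.2.1 hgu.2.2 hv.2.2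
  have hky : k * y * k⁻¹ = y := by rw [hk.eq, mul_inv_cancel_right]
  refine Set.ncard_le_ncard_of_injOn (fun z => (k * g) * z * (k * g)⁻¹) (fun z hz => ?_)
    (fun a _ b _ e => conj_injective _ e) (Set.toFinite _)
  have h1 := comp_conj h (k * g) x u hz
  rwa [← conj_conj k g x, hg, hky, ← conj_conj k g u, hkv] at h1

theorem comp_eq_commSet (h : Setup D) {x u : G} (hx : x ∈ D) (hu : u ∈ commSet D x) :
    comp D x u = commSet D x := by
  by_contra hne
  obtain ⟨w, hw, hwu⟩ : ∃ w ∈ commSet D x, w ∉ comp D x u := by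
    by_contra hh
    push Not at hh
    exact hne (Set.Subset.antisymm (comp_subset hu) hh)
  have hsep : ∀ a ∈ commSet D x, ∀ b ∈ commSet D x, b ∉ comp D x a → a ≠ b ∧ Commute a b := fun a ha b hb hab =>
    ⟨fun e => hab (e ▸ .refl), by by_contra e; exact hab (.single ⟨ha, hb, e⟩)⟩
  -- an outside member commuting with a member commutes with every other component
  have key : ∀ z ∈ D, ¬ Commute x z → ∀ a ∈ commSet D x, Commute z a →
      ∀ b ∈ commSet D x, b ∉ comp D x a → Commute z b := by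
    intro z hz hxz a ha hza b hb hab
    have hU : comp D x b ⊆ commSet D a := fun v hv => by
      have hav : v ∉ comp D x a := fun e => hab (e.trans (comp_symm hv))
      obtain ⟨h1, h2⟩ := hsep a ha v (comp_subset hb hv) hav
      exact ⟨(comp_subset hb hv).1, h1.symm, h2⟩
    have hUW : comp D x b ⊆ comp D a b := by
      intro v hv
      induction hv with
      | refl => exact .refl
      | tail h1 h2 ih => exact ih.tail ⟨hU h1, hU (h1.tail h2), h2.2.2⟩
    have heq : comp D x b = comp D a b :=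
      Set.eq_of_subset_of_ncard_le hUW (card_comp h ha.1 hx (hU .refl) hb) (Set.toFinite _)
    by_contra hzb
    have hza' : z ∈ commSet D a := ⟨hz, fun e => hxz (e ▸ ha.2.2), hza.symm⟩
    have hzW : z ∈ comp D a b := .single ⟨hU .refl, hza', fun e => hzb e.symm⟩
    rw [← heq] at hzW
    exact hxz (comp_subset hb hzW).2.2
  have hmod : IsModule D (commSet D x) := by
    refine ⟨fun y hy => hy.1, fun z hz hzM a ha b hb hza => ?_⟩
    by_cases hzx : z = x
    · subst hzx; exact hb.2.2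
    have hxz : ¬ Commute x z := fun e => hzM ⟨hz, hzx, e⟩
    by_cases hab : b ∈ comp D x a
    · obtain ⟨c, hc, hca⟩ : ∃ c ∈ commSet D x, c ∉ comp D x a := by
        by_cases hua : u ∈ comp D x a
        · exact ⟨w, hw, fun e => hwu ((comp_symm hua).trans e)⟩
        · exact ⟨u, hu, hua⟩
      refine key z hz hxz c hc (key z hz hxz a ha hza c hc hca) b hb fun e => hca ?_
      exact hab.trans (comp_symm e)
    · exact key z hz hxz a ha hza b hb hab
  have hall := no_module h hmod hu hw (fun e => hwu (e ▸ .refl))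
  exact (hall.ge hx).2.1 rfl

theorem commSet_transitive (h : Setup D) {x : G} (hx : x ∈ D) : ∀ y ∈ commSet D x, ∀ y' ∈ commSet D x,
    ∃ g ∈ Subgroup.closure (commSet D x), g * y * g⁻¹ = y' := by
  intro y hy y' hy'
  have hv : y' ∈ comp D x y := (comp_eq_commSet h hx hy).ge hy'
  clear hy'
  induction hv with
  | refl => exact ⟨1, one_mem _, by group⟩
  | @tail b c h1 h2 ih =>
    obtain ⟨g, hg, hgy⟩ := ih
    obtain ⟨hb, hc, hbc⟩ := h2
    refine ⟨(b * c) * g, mul_mem (mul_mem (Subgroup.subset_closure hb) (Subgroup.subset_closure hc)) hg, ?_⟩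
    rw [← conj_conj, hgy, mul_inv_rev, inv_eq h hb.1, inv_eq h hc.1]
    calc b * c * b * (c * b) = (b * c * b) * c * b := by group
      _ = (c * b * c) * c * b := by rw [tt_braid h.cls.1 hb.1 hc.1 hbc]
      _ = c * b * (c * c) * b := by group
      _ = c := by rw [sq_eq h hc.1, mul_one, mul_assoc, sq_eq h hb.1, mul_one]

theorem max_commuting_normalizer (h : Setup D) {E : Set G} (hE : E ⊆ D) (hc : ∀ a ∈ E, ∀ b ∈ E, Commute a b)
    (hmax : ∀ E' : Set G, E' ⊆ D → (∀ a ∈ E', ∀ b ∈ E', Commute a b) → E'.ncard ≤ E.ncard) :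
    (∃ P : Sylow 2 G, (P : Subgroup G) ≤ Subgroup.normalizer E) ∧
      ∀ a ∈ E, ∀ b ∈ E, ∀ c ∈ E, ∀ d ∈ E, a ≠ b → c ≠ d →
        ∃ g ∈ Subgroup.normalizer E, g * a * g⁻¹ = c ∧ g * b * g⁻¹ = d := by
  haveI := Fact.mk Nat.prime_two
  have hinD : ∀ (R : Subgroup G), IsPGroup 2 R → (E ⊆ (R : Set G)) → {z | z ∈ D ∧ z ∈ R} = E := by
    intro R hR hER
    refine (Set.eq_of_subset_of_ncard_le (t := {z | z ∈ D ∧ z ∈ R}) (fun z hz => ⟨hE hz, hER hz⟩) (hmax _ (fun z hz => hz.1) ?_) (Set.toFinite _)).symm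
    rintro p ⟨hp, hpR⟩ q ⟨hq, hqR⟩
    rw [tt_commute_iff h.cls.1 hp hq]
    rcases h.cls.1.2 p hp q hq with e | e
    · exact e
    · obtain ⟨k, hk⟩ := hR ⟨p * q, mul_mem hpR hqR⟩
      have hk' : (p * q) ^ 2 ^ k = 1 := congrArg Subtype.val hk
      have h1 : p * q = 1 := orderOf_eq_one_iff.1 (Nat.eq_one_of_dvd_coprimes
        (((Nat.coprime_primes Nat.prime_two Nat.prime_three).2 (by norm_num)).pow_left k)
        (orderOf_dvd_of_pow_eq_one hk') (orderOf_dvd_of_pow_eq_one e))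
      rw [h1, one_pow]
  have hP : ∀ F : Set G, F ⊆ D → (∀ a ∈ F, ∀ b ∈ F, Commute a b) → IsPGroup 2 (Subgroup.closure F) := by
    intro F hF hcF
    have hcen : Subgroup.closure F ≤ Subgroup.centralizer (Subgroup.closure F : Set G) := by
      rw [Subgroup.centralizer_closure, Subgroup.closure_le]
      intro d hd
      exact Subgroup.mem_centralizer_iff.2 fun e he => hcF e he d hd
    rintro ⟨z, hz⟩
    refine ⟨1, Subtype.ext ?_⟩
    show z ^ 2 ^ 1 = 1
    rw [pow_one, pow_two]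
    induction hz using Subgroup.closure_induction with
    | mem y hy => exact sq_eq h (hF hy)
    | one => exact mul_one 1
    | mul u v hu hv h1 h2 =>
      rw [(show Commute v u from Subgroup.mem_centralizer_iff.1 (hcen hu) v hv).mul_mul_mul_comm, h1, h2, one_mul]
    | inv u hu h1 => rw [← mul_inv_rev, h1, inv_one]
  obtain ⟨P, hPE⟩ := (hP E hE hc).exists_le_sylow
  have hPeq := hinD P P.isPGroup' fun z hz => hPE (Subgroup.subset_closure hz)
  have hnorm : ∀ g : G, (∀ z ∈ E, g * z * g⁻¹ ∈ E) → g ∈ Subgroup.normalizer E := by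
    intro g hg
    have himg : (fun z => g * z * g⁻¹) '' E = E := Set.eq_of_subset_of_ncard_le
      (Set.image_subset_iff.2 hg) (Set.ncard_image_of_injective _ fun _ _ e => conj_injective g e).ge (Set.toFinite _)
    exact Subgroup.mem_normalizer_iff_conj_image_eq.2 himg
  refine ⟨⟨P, fun g hg => hnorm g fun z hz => ?_⟩, ?_⟩
  · rw [← hPeq] at hz ⊢
    exact ⟨conj_mem h g hz.1, mul_mem (mul_mem hg hz.2) (inv_mem hg)⟩
  intro a ha b hb c hc' d hd hab hcd
  obtain ⟨g₁, hg₁⟩ := exists_conj h (hE ha) (hE hc')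
  have hb₁ : Commute c (g₁ * b * g₁⁻¹) := hg₁ ▸ (commute_conj_iff g₁ a b).2 (hc a ha b hb)
  have hne : g₁ * b * g₁⁻¹ ≠ c := fun e => hab (conj_injective g₁ (hg₁.trans e.symm))
  obtain ⟨g₂, hg₂, hgd⟩ := (rank_three h (hE hc')).1 _ (conj_mem h g₁ (hE hb)) d (hE hd) hne hcd.symm hb₁
    (hc c hc' d hd)
  let g := g₂ * g₁
  have hga : g * a * g⁻¹ = c := by
    show g₂ * g₁ * a * (g₂ * g₁)⁻¹ = c
    rw [← conj_conj, hg₁, hg₂.eq, mul_inv_cancel_right]
  have hgb : g * b * g⁻¹ = d := by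
    show g₂ * g₁ * b * (g₂ * g₁)⁻¹ = d
    rw [← conj_conj, hgd]
  let F : Set G := (fun z => g * z * g⁻¹) '' E
  have hcF : ∀ p ∈ F, ∀ q ∈ F, Commute p q := by
    rintro _ ⟨p, hp, rfl⟩ _ ⟨q, hq, rfl⟩
    exact (commute_conj_iff g p q).2 (hc p hp q hq)
  let C : Subgroup G := Subgroup.centralizer ({c, d} : Set G)
  have hle : ∀ S : Set G, (∀ p ∈ S, ∀ q ∈ S, Commute p q) → c ∈ S → d ∈ S → Subgroup.closure S ≤ C := by
    intro S hS hcS hdS
    rw [Subgroup.closure_le]
    intro p hp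
    exact Subgroup.mem_centralizer_iff.2 fun q hq => by
      rcases hq with rfl | rfl
      · exact (hS _ hcS p hp).eq
      · exact (hS _ hdS p hp).eq
  have h1 := hle E hc hc' hd
  have h2 := hle F hcF ⟨a, ha, hga⟩ ⟨b, hb, hgb⟩
  obtain ⟨R, hR⟩ := ((hP E hE hc).of_equiv (Subgroup.subgroupOfEquivOfLe h1).symm).exists_le_sylow
  obtain ⟨R', hR'⟩ := ((hP F (fun _ ⟨z, hz, e⟩ => e ▸ conj_mem h g (hE hz)) hcF).of_equiv
    (Subgroup.subgroupOfEquivOfLe h2).symm).exists_le_sylow
  obtain ⟨k, hk⟩ := MulAction.exists_smul_eq C R' R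
  have hsub := hinD ((R : Subgroup C).map C.subtype) (R.isPGroup'.map C.subtype) fun z hz =>
    ⟨⟨z, h1 (Subgroup.subset_closure hz)⟩, hR (Subgroup.subset_closure (k := E) hz : z ∈ Subgroup.closure E), rfl⟩
  refine ⟨(k : G) * g, hnorm _ fun z hz => ?_, ?_, ?_⟩
  · rw [← conj_conj, ← hsub]
    have hzF : g * z * g⁻¹ ∈ Subgroup.closure F := Subgroup.subset_closure ⟨z, hz, rfl⟩
    refine ⟨conj_mem h _ (conj_mem h g (hE hz)), ⟨k * ⟨_, h2 hzF⟩ * k⁻¹, ?_, rfl⟩⟩
    rw [← hk, Sylow.smul_def]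
    exact ⟨⟨_, h2 hzF⟩, hR' hzF, rfl⟩
  · rw [← conj_conj, hga]
    exact mul_inv_eq_iff_eq_mul.2 (Subgroup.mem_centralizer_iff.1 k.2 c (Set.mem_insert _ _)).symm
  · rw [← conj_conj, hgb]
    exact mul_inv_eq_iff_eq_mul.2 (Subgroup.mem_centralizer_iff.1 k.2 d (Set.mem_insert_of_mem _ rfl)).symm

end Cfsg.Agent.ClassK.Fischer
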