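/-! Words for the certificate that the 7-dimensional matrix group is simple (offline script). -/

set_option autoImplicit false

namespace Cfsg.Agent.S0457

/-- A word of order 3. -/
def e3 : List Bool := [true, true, false, true, true, true, false, true]

/-- A word of order 5. -/
def e5 : List Bool := [true, true, true]

/-- A word of order 7. -/
def e7 : List Bool := [false, false, false]

/-- A word of order 11. -/
def e11 : List Bool := [true, true, false]

/-- A word of order 19. -/
def e19 : List Bool := [true, false, false, false]

/-- A subgroup of order eight. -/
def sylW : List (List Bool) := [
  [],
  [true, true, true, false, true, false, true],
  [true, true, false, false, false, true, false, false, true, true, true, true, true, true, true, true, false, true, false, true, true, true, true, true, true, true, true, true, true, true, true, true, true, true, true, true, true, true, true, true, false, false, false, false, false, false, false, false, false, false, false, false, true, true, true, true, false, false, false, false, false, false, false, false, false, false, false, false, false, false, false, false, false, false, true, true, true, true, true, true, true, true],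
  [true, true, true, false, true, false, true, true, true, false, false, false, true, false, false, true, true, true, true, true, true, true, true, false, true, false, true, true, true, true, true, true, true, true, true, true, true, true, true, true, true, true, true, true, true, true, true, false, false, false, false, false, false, false, false, false, false, false, false, true, true, true, true, false, false, false, false, false, false, false, false, false, false, false, false, false, false, false, false, false, false, true, true, true, true, true, true, true, true],
  [false, true, true, true, true, false, true, false, true, true, true, false, true, false, true, false, false, false, false, false, false, true, true, true, true, false, false, false, false, false, false, true, true, true, true, true, true, true, true, true, true, true, true, true, true, true, true, false, false, false, false, false, false],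
  [true, true, true, false, true, false, true, false, true, true, true, true, false, true, false, true, true, true, false, true, false, true, false, false, false, false, false, false, true, true, true, true, false, false, false, false, false, false, true, true, true, true, true, true, true, true, true, true, true, true, true, true, true, true, false, false, false, false, false, false],
  [true, true, false, false, false, true, false, false, true, true, true, true, true, true, true, true, false, true, false, true, true, true, true, true, true, true, true, true, true, true, true, true, true, true, true, true, true, true, true, true, false, false, false, false, false, false, false, false, false, false, false, false, true, true, true, true, false, false, false, false, false, false, false, false, false, false, false, false, false, false, false, false, false, false, true, true, true, true, true, true, true, true, false, true, true, true, true, false, true, false, true, true, true, false, true, false, true, false, false, false, false, false, false, true, true, true, true, false, false, false, false, false, false, true, true, true, true, true, true, true, true, true, true, true, true, true, true, true, true, false, false, false, false, false, false],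
  [true, true, true, false, true, false, true, true, true, false, false, false, true, false, false, true, true, true, true, true, true, true, true, false, true, false, true, true, true, true, true, true, true, true, true, true, true, true, true, true, true, true, true, true, true, true, true, false, false, false, false, false, false, false, false, false, false, false, false, true, true, true, true, false, false, false, false, false, false, false, false, false, false, false, false, false, false, false, false, false, false, true, true, true, true, true, true, true, true, false, true, true, true, true, false, true, false, true, true, true, false, true, false, true, false, false, false, false, false, false, true, true, true, true, false, false, false, false, false, false, true, true, true, true, true, true, true, true, true, true, true, true, true, true, true, true, false, false, false, false, false, false]]

/-- Conjugators out of it. -/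
def cjW : List (List Bool) := [
  [false, true, true, false, true, true, false, true],
  [true, false, true, true, true, true],
  [false, true, true, false, false, true],
  [false, true, false, false, false, false, false, false, false, false, true],
  [false, true, false, true, true, false, false, false, false],
  [false, false, true, false, true],
  [false, true, false, true, true, false, true, false, false, false, true, true, false, true]]

/-- Conjugators to order 19. -/
def to19W : List (List Bool × List Bool) := [
  ([true, true, true, true, false, true, true], [true, true, true, true, true, true, true, true, false, false, false, false, false, false, true, true, true, true, true, true, true, true, true, true, true, true, true, true, true, true]),
  ([false, true, false, true, true, true, true, false, false, false], [false, false, false, false, false, false, false, false, false, false, false, false, false, false, false, false, false, false, true, true, true, true, true, true, true, true, true, true, true, true, true, true, true, true, false, false, false, false, false, false, true, true, true, true, false, false, false, false, false, false]),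
  ([true, false, true, false, false], [false, false, false, false, false, false, false, false, false, false, false, false, true, true, true, true, false, false, false, false, false, false, true, true, true, true]),
  ([false, false, false, false, false, false], [false, false, false, false, false, false, false, false, false, false, false, false, false, false, false, false, false, false, false, false, false, false, false, false, false, false, false, false, false, false, false, false, false, false, false, false])]

/-- Factorisations of the generators. -/
def uvW : List (List Bool × List Bool) := [
  ([false, false, true, false, false, false, true, false], [false, false, true, false, false, false, true, false, false, false, true, false, false, false, true, false, false, false, true, false, false, false, true, false, false, false, true, false, false, false, true, false, false, false, true, false, false, false, true, false, false, false, true, false, false, false, true, false, false, false, true, false, false, false, true, false, false, false, true, false, false, false, true, false, false, false, true, false, false, false, true, false, false, false, true, false, false, false, true, false, false, false, true, false, false, false, true, false, false, false, true, false, false, false, true, false, false, false, true, false, false, false, true, false, false, false, true, false, false, false, true, false, false, false, true, false, false, false, true, false, false, false, true, false, false, false, true, false, false, false, true, false, false, false, true, false, false, false, true, false, false, false, true, false, false]),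
  ([false, false, false, true, true, true, true, false], [false, false, false, true, true, true, true, false, false, false, false, true, true, true, true, false, false, false, false, true, true, true, true, false, false, false, false, true, true, true, true, false, false, false, false, true, true, true, true, false, false, false, false, true, true, true, true, false, false, false, false, true, true, true, true, false, false, false, false, true, true, true, true, false, false, false, false, true, true, true, true, false, false, false, false, true, true, true, true, false, false, false, false, true, true, true, true, false, false, false, false, true, true, true, true, false, false, false, false, true, true, true, true, false, false, false, false, true, true, true, true, false, false, false, false, true, true, true, true, false, false, false, false, true, true, true, true, false, false, false, false, true, true, true, true, false, false, false, false, true, true, true, true, false, true])]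

end Cfsg.Agent.S0457
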