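import Mathlib
import Cfsg.Prelude.Def_Quasithin
import Cfsg.Agent.Lib.Components.Subnormal
import Cfsg.Agent.Lib.Components.PPrimeCore
import Cfsg.Agent.Lib.LocalEvenA.Core

/-!
# Perfect subnormal subgroups and normal 2-subgroups
-/

set_option autoImplicit false

namespace Cfsg.Agent.ClassK

open Subgroup Cfsg

variable {G : Type*} [Group G] {p : ℕ}

/-- A `p'`-element lies in each subnormal subgroup of `p`-power index. -/
theorem mem_of_subnormal_pow_index [hp : Fact p.Prime] {S : Subgroup G} (hS : S.IsSubnormal)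
    (hi : ∃ k, S.index = p ^ k) {x : G} (hx : (orderOf x).Coprime p) : x ∈ S := by
  induction hS with
  | top => exact mem_top x
  | step A B hAB _ hN ih =>
    obtain ⟨k, hk⟩ := hi
    have h1 : B.index ∣ p ^ k := hk ▸ index_dvd_of_le hAB
    have h2 : A.relIndex B ∣ p ^ k := hk ▸ Dvd.intro _ (relIndex_mul_index hAB)
    obtain ⟨j, -, hj⟩ := (Nat.dvd_prime_pow hp.out).mp h1
    have hxB : x ∈ B := ih ⟨j, hj⟩
    haveI := hN
    have hd1 : orderOf ((⟨x, hxB⟩ : B) : B ⧸ A.subgroupOf B) ∣ orderOf x := by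
      have := orderOf_map_dvd (QuotientGroup.mk' (A.subgroupOf B)) (⟨x, hxB⟩ : B)
      rwa [Subgroup.orderOf_mk] at this
    have hd2 : orderOf ((⟨x, hxB⟩ : B) : B ⧸ A.subgroupOf B) ∣ p ^ k := by
      refine dvd_trans (orderOf_dvd_natCard _) ?_
      exact h2
    have := (QuotientGroup.eq_one_iff (N := A.subgroupOf B) (⟨x, hxB⟩ : B)).mp
      (orderOf_eq_one_iff.mp (Nat.eq_one_of_dvd_coprimes (hx.pow_right k) hd1 hd2))
    exact this

theorem oddGenerated_le (H : Subgroup G) : oddGenerated H ≤ H :=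
  (closure_le _).mpr fun _ hx => hx.1

/-- `O^2` of a perfect subgroup is the subgroup. -/
theorem oddGenerated_of_perfect [Finite G] {K : Subgroup G} (hK : ⁅K, K⁆ = K) :
    oddGenerated K = K := by
  haveI : Fact (Nat.Prime 2) := ⟨Nat.prime_two⟩
  refine le_antisymm (oddGenerated_le K) ?_
  have hperf : Group.IsPerfect K := Subgroup.isPerfect_iff.mpr hK
  haveI := LocalEvenA.pResidual_characteristic' 2 K
  have htop : pResidual 2 K = ⊤ := by
    by_contra h
    haveI := (LocalEvenA.pResidual_quotient_isPGroup (p := 2) (G := K)).isNilpotent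
    haveI : Nontrivial (K ⧸ pResidual 2 K) := QuotientGroup.nontrivial_iff.mpr h
    have h1 : commutator (K ⧸ pResidual 2 K) < ⊤ :=
      Group.IsSolvable.commutator_lt_top_of_nontrivial _
    have h2 : commutator (K ⧸ pResidual 2 K) = ⊤ := by
      have := Subgroup.map_commutator (⊤ : Subgroup K) ⊤ (QuotientGroup.mk' (pResidual 2 K))
      rw [← commutator_def, hperf.commutator_eq_top,
        Subgroup.map_top_of_surjective _ (QuotientGroup.mk'_surjective _), ← commutator_def] at this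
      exact this.symm
    exact h1.ne h2
  intro x hx
  have h := congrArg (Subgroup.map K.subtype) htop
  rw [pResidual, MonoidHom.map_closure, ← MonoidHom.range_eq_map, range_subtype] at h
  rw [← h] at hx
  refine closure_mono ?_ hx
  rintro _ ⟨a, ha, rfl⟩
  refine ⟨a.2, ?_⟩
  show Odd (orderOf (a : G))
  rw [Subgroup.orderOf_coe]
  exact Nat.coprime_two_right.mp ha

theorem le_normalizer_oddGenerated (H : Subgroup G) :
    H ≤ normalizer (oddGenerated H : Set G) := by
  intro g hg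
  apply Components.mem_normalizer_of_map_conj_eq
  rw [oddGenerated, MonoidHom.map_closure]
  congr 1
  ext x
  constructor
  · rintro ⟨y, ⟨hy, ho⟩, rfl⟩
    refine ⟨H.mul_mem (H.mul_mem hg hy) (H.inv_mem hg), ?_⟩
    rwa [MulEquiv.coe_toMonoidHom, MulEquiv.orderOf_eq]
  · rintro ⟨hx, ho⟩
    refine ⟨(MulAut.conj g).symm x, ⟨?_, ?_⟩, (MulAut.conj g).apply_symm_apply x⟩
    · rw [MulAut.conj_symm_apply]
      exact H.mul_mem (H.mul_mem (H.inv_mem hg) hx) hg
    · rwa [MulEquiv.orderOf_eq]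

/-- A normal 2-subgroup normalizes each subnormal `O^2`-subgroup. -/
theorem le_normalizer_of_oddGenerated [Finite G] {A R : Subgroup G} [R.Normal] (hA : A.IsSubnormal)
    (hR : IsPGroup 2 R) (hgen : oddGenerated A = A) : R ≤ normalizer (A : Set G) := by
  haveI : Fact (Nat.Prime 2) := ⟨Nat.prime_two⟩
  set H := A ⊔ R with hH
  have hle : oddGenerated H ≤ A := by
    refine (closure_le _).mpr fun x hx => ?_
    obtain ⟨k, hk⟩ := hR.exists_card_eq
    obtain ⟨j, -, hj⟩ := (Nat.dvd_prime_pow Nat.prime_two).mp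
      (hk ▸ Components.relIndex_self_sup_dvd A R)
    exact mem_subgroupOf.mp (mem_of_subnormal_pow_index (p := 2) (S := A.subgroupOf H)
      hA.subgroupOf ⟨j, hj⟩ (x := ⟨x, hx.1⟩)
      (by rw [Subgroup.orderOf_mk]; exact Nat.coprime_two_right.mpr hx.2))
  have heq : oddGenerated H = A := by
    refine le_antisymm hle ?_
    conv_lhs => rw [← hgen]
    exact closure_mono fun x hx => ⟨(le_sup_left : A ≤ H) hx.1, hx.2⟩
  rw [← heq]
  exact le_sup_right.trans (le_normalizer_oddGenerated H)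

/-- Relative form of `le_normalizer_of_oddGenerated`. -/
theorem le_normalizer_of_oddGenerated' [Finite G] {A R Y : Subgroup G} (hAY : A ≤ Y) (hRY : R ≤ Y)
    (hA : (A.subgroupOf Y).IsSubnormal) (hRn : Y ≤ normalizer (R : Set G)) (hR : IsPGroup 2 R)
    (hgen : oddGenerated A = A) : R ≤ normalizer (A : Set G) := by
  haveI : (R.subgroupOf Y).Normal := normal_subgroupOf_of_le_normalizer hRn
  have hgen' : oddGenerated (A.subgroupOf Y) = A.subgroupOf Y := by
    apply map_injective Y.subtype_injective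
    rw [map_subgroupOf_eq_of_le hAY, oddGenerated, MonoidHom.map_closure]
    conv_rhs => rw [← hgen, oddGenerated]
    congr 1
    ext x
    constructor
    · rintro ⟨a, ⟨ha, ho⟩, rfl⟩
      exact ⟨mem_subgroupOf.mp ha, by rwa [Subgroup.coe_subtype, Subgroup.orderOf_coe]⟩
    · rintro ⟨hx, ho⟩
      exact ⟨⟨x, hAY hx⟩, ⟨mem_subgroupOf.mpr hx, by rwa [Subgroup.orderOf_mk]⟩, rfl⟩
  have h := le_normalizer_of_oddGenerated (R := R.subgroupOf Y) hA
    (hR.of_equiv (subgroupOfEquivOfLe hRY).symm) hgen'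
  intro r hr
  have h' := h (x := ⟨r, hRY hr⟩) (mem_subgroupOf.mpr hr)
  rw [mem_normalizer_iff]
  intro a
  constructor
  · intro ha
    exact mem_subgroupOf.mp ((mem_normalizer_iff.mp h' ⟨a, hAY ha⟩).mp (mem_subgroupOf.mpr ha))
  · intro ha
    have haY : a ∈ Y := by
      have := Y.mul_mem (Y.mul_mem (Y.inv_mem (hRY hr)) (hAY ha)) (hRY hr)
      simpa [mul_assoc] using this
    exact mem_subgroupOf.mp ((mem_normalizer_iff.mp h' ⟨a, haY⟩).mpr (mem_subgroupOf.mpr ha))

/-- `O_p` of a subgroup subnormal in `Y` lies in `O_p(Y)`. -/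
theorem pCoreOf_le_of_subnormal [Finite G] {A Y : Subgroup G} (hAY : A ≤ Y)
    (hA : (A.subgroupOf Y).IsSubnormal) : pCoreOf p A ≤ pCoreOf p Y := by
  have hle : pCoreOf p A ≤ Y := (LocalEvenA.pCoreOf_le' p A).trans hAY
  have hsub : ((pCoreOf p A).subgroupOf Y).IsSubnormal := by
    refine Components.isSubnormal_of_normal_in (K := A.subgroupOf Y)
      (fun x hx => LocalEvenA.pCoreOf_le' p A hx) hA ?_
    intro x hx
    rw [mem_normalizer_iff]
    intro a
    exact mem_normalizer_iff.mp (LocalEvenA.le_normalizer_pCoreOf p A hx) (a : G)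
  have := Subgroup.map_mono (f := Y.subtype) (LocalEvenA.subnormal_le_pCore hsub
    ((LocalEvenA.pCoreOf_isPGroup' p A).of_equiv (subgroupOfEquivOfLe hle).symm))
  rwa [map_subgroupOf_eq_of_le hle] at this

/-- The elements of order at most two of the centre of `P`. -/
def omegaCenterTwo (P : Subgroup G) : Subgroup G where
  carrier := {x | x ∈ P ∧ (∀ a ∈ P, Commute x a) ∧ x * x = 1}
  one_mem' := ⟨P.one_mem, fun a _ => Commute.one_left a, one_mul 1⟩
  mul_mem' := by
    rintro a b ⟨ha, hac, ha2⟩ ⟨hb, hbc, hb2⟩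
    refine ⟨P.mul_mem ha hb, fun c hc => (hac c hc).mul_left (hbc c hc), ?_⟩
    rw [mul_assoc, ← mul_assoc b, ← (hac b hb).eq, mul_assoc, hb2, mul_one, ha2]
  inv_mem' := by
    rintro a ⟨ha, hac, ha2⟩
    exact ⟨P.inv_mem ha, fun c hc => (hac c hc).inv_left, by rw [← mul_inv_rev, ha2, inv_one]⟩

theorem mem_omegaCenterTwo {P : Subgroup G} {x : G} :
    x ∈ omegaCenterTwo P ↔ x ∈ P ∧ (∀ a ∈ P, Commute x a) ∧ x * x = 1 := Iff.rfl

theorem omegaOne_center_eq (P : Subgroup G) :
    omegaOne 2 (P ⊓ centralizer (P : Set G)) = omegaCenterTwo P := by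
  refine le_antisymm ((closure_le _).mpr fun x hx => ?_) fun x hx => subset_closure ?_
  · exact ⟨hx.1.1, fun a ha => (mem_centralizer_iff.mp hx.1.2 a ha).symm,
      (pow_two x).symm.trans hx.2⟩
  · obtain ⟨hP, hc, h2⟩ := hx
    exact ⟨⟨hP, mem_centralizer_iff.mpr fun a ha => (hc a ha).eq.symm⟩, (pow_two x).trans h2⟩

theorem normalizer_le_normalizer_omegaCenterTwo (P : Subgroup G) :
    normalizer (P : Set G) ≤ normalizer (omegaCenterTwo P : Set G) := by
  intro g hg
  apply Components.mem_normalizer_of_map_conj_eq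
  have hP := Components.map_conj_eq_of_mem_normalizer hg
  ext x
  constructor
  · rintro ⟨y, ⟨hy, hc, h2⟩, rfl⟩
    refine ⟨hP ▸ mem_map_of_mem _ hy, fun a ha => ?_, ?_⟩
    · rw [← hP] at ha
      obtain ⟨b, hb, rfl⟩ := ha
      exact (hc b hb).map _
    · rw [← map_mul, h2, map_one]
  · rintro ⟨hx, hc, h2⟩
    rw [← hP] at hx
    obtain ⟨y, hy, rfl⟩ := hx
    refine ⟨y, ⟨hy, fun b hb => (MulAut.conj g).injective ?_, (MulAut.conj g).injective ?_⟩, rfl⟩
    · rw [map_mul, map_mul]
      exact (hc _ (hP ▸ mem_map_of_mem _ hb)).eq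
    · rw [map_mul, map_one]
      exact h2

end Cfsg.Agent.ClassK
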