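import Mathlib
import Cfsg.Prelude.Def_Local

/-!
# TI families in 2-groups with members of exponent greater than two
-/

set_option autoImplicit false

namespace Cfsg.Agent.ClassK

open Subgroup
open scoped commutatorElement

variable {G : Type*} [Group G]

/-- A 2-group with nontrivial Frattini subgroup has an element of order greater than two. -/
theorem exists_mul_self_ne_one {R : Type*} [Group R] [Finite R] (h : frattini R ≠ ⊥) :
    ∃ r : R, r * r ≠ 1 := by
  by_contra hcon
  push Not at hcon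
  apply h
  have hcomm : ∀ a b : R, a * b = b * a := by
    intro a b
    have h1 := hcon (a * b)
    calc a * b = (a * b)⁻¹ := (inv_eq_of_mul_eq_one_right h1).symm
      _ = b⁻¹ * a⁻¹ := mul_inv_rev a b
      _ = b * a := by rw [inv_eq_of_mul_eq_one_right (hcon a), inv_eq_of_mul_eq_one_right (hcon b)]
  rw [eq_bot_iff]
  intro x hx
  by_contra hx1
  rw [mem_bot] at hx1
  obtain ⟨M, hxM, hmax⟩ := (Set.toFinite {M : Subgroup R | x ∉ M}).exists_maximal
    ⟨⊥, by simpa using hx1⟩
  have hM : IsCoatom M := by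
    refine ⟨fun htop => hxM (by rw [htop]; exact mem_top x), fun S hS => ?_⟩
    have hxS : x ∈ S := by
      by_contra hxS
      exact hS.not_ge (hmax (y := S) hxS hS.le)
    rw [eq_top_iff]
    intro y _
    let N : Subgroup R :=
      { carrier := {a | a ∈ M ∨ y * a ∈ M}
        one_mem' := Or.inl M.one_mem
        mul_mem' := by
          rintro a b (ha | ha) (hb | hb)
          · exact Or.inl (M.mul_mem ha hb)
          · refine Or.inr ?_
            have := M.mul_mem ha hb
            rwa [← mul_assoc, hcomm a y, mul_assoc] at this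
          · refine Or.inr ?_
            have := M.mul_mem ha hb
            rwa [mul_assoc] at this
          · refine Or.inl ?_
            have := M.mul_mem ha hb
            rwa [hcomm y a, mul_assoc, ← mul_assoc y y b, hcon y, one_mul] at this
        inv_mem' := by
          intro a ha
          rwa [inv_eq_of_mul_eq_one_right (hcon a)] }
    by_cases hyM : y ∈ M
    · exact hS.le hyM
    have hMN : M ≤ N := fun a ha => Or.inl ha
    have hyN : y ∈ N := Or.inr (by rw [hcon y]; exact M.one_mem)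
    have hxN : x ∈ N := by
      by_contra hxN
      exact hyM (hmax (y := N) hxN hMN hyN)
    rcases hxN with h' | h'
    · exact absurd h' hxM
    · have h3 := S.mul_mem (hS.le h') hxS
      rwa [mul_assoc, hcon x, mul_one] at h3
  exact hxM (frattini_le_coatom hM hx)

/-- One step: if `t² ` normalizes `R` then so does `t`. -/
theorem ti_step [Finite G] {R T : Subgroup G} (hcard : Nat.card R = Nat.card T)
    (hR : ∃ r ∈ R, r * r ≠ 1)
    (hTR : ∀ r ∈ R, T.map (MulAut.conj r).toMonoidHom = T ∨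
      T.map (MulAut.conj r).toMonoidHom ⊓ T = ⊥)
    (hTc : ∀ r ∈ R, T.map (MulAut.conj r).toMonoidHom ≠ T →
      ⁅T.map (MulAut.conj r).toMonoidHom, T⁆ = ⊥)
    (hR2 : ∀ r ∈ R, ∃ k : ℕ, r ^ 2 ^ k = 1)
    {t : G} (ht : t ∈ T) (hRt : R.map (MulAut.conj t).toMonoidHom ⊓ R = ⊥)
    (hRtc : ⁅R.map (MulAut.conj t).toMonoidHom, R⁆ = ⊥)
    (ht2 : ∀ r ∈ R, t * t * r * (t * t)⁻¹ ∈ R) : False := by
  have hcm : ∀ r ∈ R, ∀ s ∈ R, Commute (t * r * t⁻¹) s := by
    intro r hr s hs
    have h := commutator_mem_commutator (mem_map_of_mem (MulAut.conj t).toMonoidHom hr) hs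
    rw [hRtc, mem_bot, commutatorElement_eq_one_iff_commute] at h
    simpa using h
  have hdis : ∀ r ∈ R, t * r * t⁻¹ ∈ R → r = 1 := by
    intro r hr h
    have h1 : t * r * t⁻¹ ∈ R.map (MulAut.conj t).toMonoidHom ⊓ R :=
      ⟨mem_map_of_mem (MulAut.conj t).toMonoidHom hr, h⟩
    rw [hRt, mem_bot, mul_inv_eq_one, mul_eq_left] at h1
    exact h1
  -- elements of order at least four normalize `T`
  have hbig : ∀ r ∈ R, r * r ≠ 1 → T.map (MulAut.conj r).toMonoidHom = T := by
    intro r hr hr2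
    by_contra hne
    have hu : Commute (r * t⁻¹ * r⁻¹) t := by
      have h := commutator_mem_commutator
        (mem_map_of_mem (MulAut.conj r).toMonoidHom (T.inv_mem ht)) ht
      rw [hTc r hr hne, mem_bot, commutatorElement_eq_one_iff_commute] at h
      simpa using h
    set r' := t * r * t⁻¹ with hr'
    have hct : Commute t (r' * r⁻¹) := by
      have : r' * r⁻¹ = t * (r * t⁻¹ * r⁻¹) := by rw [hr']; group
      rw [this]
      exact (Commute.refl t).mul_right hu.symm
    have h1 := ht2 r hr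
    have e1 : t * t * r * (t * t)⁻¹ = r' * r' * r⁻¹ := by
      calc t * t * r * (t * t)⁻¹ = (t * (r' * r⁻¹) * t⁻¹) * r' := by rw [hr']; group
        _ = r' * r⁻¹ * r' := by rw [hct.eq, mul_inv_cancel_right]
        _ = r' * (r⁻¹ * r') := mul_assoc _ _ _
        _ = r' * (r' * r⁻¹) := by rw [((hcm r hr r hr).inv_right).eq]
        _ = r' * r' * r⁻¹ := (mul_assoc _ _ _).symm
    rw [e1] at h1
    have h2 : t * (r * r) * t⁻¹ ∈ R := by
      have := R.mul_mem h1 hr
      rw [inv_mul_cancel_right] at this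
      have e2 : t * (r * r) * t⁻¹ = r' * r' := by rw [hr']; group
      rw [e2]; exact this
    exact hr2 (hdis _ (R.mul_mem hr hr) h2)
  -- hence all of `R` normalizes `T`
  have hall : ∀ r ∈ R, T.map (MulAut.conj r).toMonoidHom = T := by
    intro r hr
    by_contra hne
    have hrr : r * r = 1 := by
      by_contra h
      exact hne (hbig r hr h)
    obtain ⟨r₀, hr₀, hr₀2⟩ := hR
    have hn₀ := hbig r₀ hr₀ hr₀2
    have hinv : r * r₀ * r⁻¹ = r₀⁻¹ := by
      have hne' : T.map (MulAut.conj (r * r₀)).toMonoidHom ≠ T := by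
        intro h
        apply hne
        calc T.map (MulAut.conj r).toMonoidHom
            = (T.map (MulAut.conj r₀).toMonoidHom).map (MulAut.conj r).toMonoidHom := by rw [hn₀]
          _ = T.map (MulAut.conj (r * r₀)).toMonoidHom := by rw [map_map, map_mul]; rfl
          _ = T := h
      have h1 : r * r₀ * (r * r₀) = 1 := by
        by_contra h
        exact hne' (hbig _ (R.mul_mem hr hr₀) h)
      rw [inv_eq_of_mul_eq_one_right hrr]
      have := congrArg (fun w => w * r₀⁻¹) h1
      simpa [mul_assoc] using this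
    obtain ⟨k, hk⟩ := hR2 r₀ hr₀
    classical
    have hex : ∃ j, r₀ ^ 2 ^ j = 1 := ⟨k, hk⟩
    obtain ⟨j, hj⟩ : ∃ j, Nat.find hex = j + 1 := by
      refine ⟨Nat.find hex - 1, ?_⟩
      have : Nat.find hex ≠ 0 := fun h0 => by
        have := Nat.find_spec hex
        rw [h0, pow_zero, pow_one] at this
        exact hr₀2 (by rw [this, mul_one])
      omega
    set w := r₀ ^ 2 ^ j with hw
    have hw1 : w ≠ 1 := Nat.find_min hex (by omega)
    have hw2 : w⁻¹ = w := by
      refine inv_eq_of_mul_eq_one_right ?_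
      have := Nat.find_spec hex
      rw [hj] at this
      rw [hw, ← pow_two, ← pow_mul, ← pow_succ]
      exact this
    have hwR : w ∈ R := R.pow_mem hr₀ _
    have hrw : r * w * r⁻¹ = w := by
      rw [hw, ← conj_pow, hinv, inv_pow, ← hw, hw2]
    set c := t * w * t⁻¹ * w⁻¹ with hc
    have hcT : c ∈ T := by
      have h1 : w * t⁻¹ * w⁻¹ ∈ T := by
        have hwn : T.map (MulAut.conj w).toMonoidHom = T := by
          have hpow : ∀ i : ℕ, T.map (MulAut.conj (r₀ ^ i)).toMonoidHom = T := by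
            intro i
            induction i with
            | zero => ext x; simp
            | succ i ih =>
              calc T.map (MulAut.conj (r₀ ^ (i + 1))).toMonoidHom
                  = (T.map (MulAut.conj (r₀ ^ i)).toMonoidHom).map (MulAut.conj r₀).toMonoidHom := by
                    rw [map_map, pow_succ', map_mul]; rfl
                _ = T := by rw [ih, hn₀]
          exact hpow _
        rw [← hwn]
        exact mem_map_of_mem (MulAut.conj w).toMonoidHom (T.inv_mem ht)
      have : c = t * (w * t⁻¹ * w⁻¹) := by rw [hc]; group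
      rw [this]
      exact T.mul_mem ht h1
    have hrc : r * c * r⁻¹ = c := by
      have h1 : r * (t * w * t⁻¹) * r⁻¹ = t * w * t⁻¹ := by
        rw [← (hcm w hwR r hr).eq, mul_inv_cancel_right]
      calc r * c * r⁻¹ = (r * (t * w * t⁻¹) * r⁻¹) * (r * w * r⁻¹)⁻¹ := by rw [hc]; group
        _ = c := by rw [h1, hrw]
    have hc' : c ∈ T.map (MulAut.conj r).toMonoidHom := ⟨c, hcT, hrc⟩
    have hc1 : c = 1 := by
      have : c ∈ T.map (MulAut.conj r).toMonoidHom ⊓ T := ⟨hc', hcT⟩
      rwa [(hTR r hr).resolve_left hne, mem_bot] at this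
    rw [hc, mul_inv_eq_one] at hc1
    exact hw1 (hdis w hwR (by rw [hc1]; exact hwR))
  -- so `r ↦ [t, r]` maps `R` onto `T`
  have hmem : ∀ r ∈ R, t * r * t⁻¹ * r⁻¹ ∈ T := by
    intro r hr
    have h1 : r * t⁻¹ * r⁻¹ ∈ T := by
      rw [← hall r hr]
      exact mem_map_of_mem (MulAut.conj r).toMonoidHom (T.inv_mem ht)
    have : t * r * t⁻¹ * r⁻¹ = t * (r * t⁻¹ * r⁻¹) := by group
    rw [this]
    exact T.mul_mem ht h1
  let f : R → T := fun r => ⟨t * r * t⁻¹ * (r : G)⁻¹, hmem r r.2⟩
  have hinj : Function.Injective f := by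
    intro a b hab
    have h := congrArg Subtype.val hab
    simp only [f] at h
    have h1 : t * ((b : G)⁻¹ * a) * t⁻¹ ∈ R := by
      have e : t * ((b : G)⁻¹ * a) * t⁻¹ = (b : G)⁻¹ * a := by
        calc t * ((b : G)⁻¹ * a) * t⁻¹ = (t * b * t⁻¹)⁻¹ * (t * a * t⁻¹) := by group
          _ = (t * b * t⁻¹)⁻¹ * (t * b * t⁻¹ * (b : G)⁻¹ * a) := by rw [← h]; group
          _ = (b : G)⁻¹ * a := by group
      rw [e]
      exact R.mul_mem (R.inv_mem b.2) a.2
    exact (Subtype.ext (inv_mul_eq_one.mp (hdis _ (R.mul_mem (R.inv_mem b.2) a.2) h1))).symm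
  haveI := Fintype.ofFinite R
  haveI := Fintype.ofFinite T
  have hsurj : Function.Surjective f := by
    refine ((Fintype.bijective_iff_injective_and_card f).mpr ⟨hinj, ?_⟩).2
    rw [← Nat.card_eq_fintype_card, ← Nat.card_eq_fintype_card, hcard]
  obtain ⟨r, hr⟩ := hsurj ⟨t, ht⟩
  have hrt : t * (r : G) * t⁻¹ * (r : G)⁻¹ = t := congrArg Subtype.val hr
  obtain ⟨r₀, hr₀, hr₀2⟩ := hR
  apply hr₀2
  have hmem' : t * r₀ * t⁻¹ ∈ R := by
    have e : t * r₀ * t⁻¹ = (t * (r : G) * t⁻¹ * (r : G)⁻¹) * r₀ *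
        (t * (r : G) * t⁻¹ * (r : G)⁻¹)⁻¹ := by rw [hrt]
    rw [e]
    have hc := hcm r r.2 ((r : G)⁻¹ * r₀ * r) (R.mul_mem (R.mul_mem (R.inv_mem r.2) hr₀) r.2)
    have e2 : (t * (r : G) * t⁻¹ * (r : G)⁻¹) * r₀ * (t * (r : G) * t⁻¹ * (r : G)⁻¹)⁻¹
        = (t * r * t⁻¹) * ((r : G)⁻¹ * r₀ * r) * (t * r * t⁻¹)⁻¹ := by group
    rw [e2, hc.eq, mul_inv_cancel_right]
    exact R.mul_mem (R.mul_mem (R.inv_mem r.2) hr₀) r.2
  rw [hdis r₀ hr₀ hmem', mul_one]

/-- Distinct members of an `S`-invariant TI family of subgroups of equal order, none elementary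
abelian, commute. -/
theorem ti_family_commute [Finite G] {S : Subgroup G} (hS : IsPGroup 2 S) (Δ : Set (Subgroup G))
    (hle : ∀ R ∈ Δ, R ≤ S)
    (hinv : ∀ s ∈ S, ∀ R ∈ Δ, R.map (MulAut.conj s).toMonoidHom ∈ Δ)
    (hΦ : ∀ R ∈ Δ, ∃ r ∈ R, r * r ≠ 1)
    (hord : ∀ R ∈ Δ, ∀ T ∈ Δ, Nat.card R = Nat.card T)
    (hti : ∀ R ∈ Δ, ∀ T ∈ Δ, R = T ∨ R ⊓ T = ⊥) :
    ∀ R ∈ Δ, ∀ T ∈ Δ, R ≠ T → ⁅R, T⁆ = ⊥ := by
  haveI : Fact (Nat.Prime 2) := ⟨Nat.prime_two⟩
  suffices H : ∀ n, ∀ R ∈ Δ, ∀ T ∈ Δ, Nat.card (R ⊔ T : Subgroup G) ≤ n → R ≠ T → ⁅R, T⁆ = ⊥ from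
    fun R hR T hT => H _ R hR T hT le_rfl
  intro n
  induction n with
  | zero =>
    intro R _ T _ h
    exact absurd h (by have := Nat.card_pos (α := (R ⊔ T : Subgroup G)); omega)
  | succ n ih =>
    intro R hR T hT hn hne
    have hpow : ∀ r ∈ S, ∃ k : ℕ, r ^ 2 ^ k = 1 := by
      intro r hr
      obtain ⟨k, hk⟩ := hS ⟨r, hr⟩
      exact ⟨k, congrArg Subtype.val hk⟩
    -- conjugates of one member under the group generated by the two
    have hsub : ∀ A ∈ Δ, ∀ B ∈ Δ, A ≠ B → Nat.card (A ⊔ B : Subgroup G) ≤ n + 1 →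
        ∀ b ∈ B, A.map (MulAut.conj b).toMonoidHom ≠ A →
          ⁅A.map (MulAut.conj b).toMonoidHom, A⁆ = ⊥ := by
      intro A hA B hB hAB hcard b hb hmove
      refine ih _ (hinv b (hle B hB hb) A hA) A hA ?_ hmove
      set H := A ⊔ B with hH
      have hHS : H ≤ S := sup_le (hle A hA) (hle B hB)
      haveI := (hS.to_le hHS).isNilpotent
      have hAtop : A.subgroupOf H ≠ ⊤ := by
        intro htop
        have hBA : B ≤ A := le_sup_right.trans (subgroupOf_eq_top.mp htop)
        have h1 : A ⊓ B = ⊥ := (hti A hA B hB).resolve_left hAB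
        rw [inf_eq_right.mpr hBA] at h1
        obtain ⟨r, hr, hr2⟩ := hΦ B hB
        rw [h1, mem_bot] at hr
        exact hr2 (by rw [hr, mul_one])
      obtain ⟨M, hM, hAM⟩ :=
        (eq_top_or_exists_le_coatom (A.subgroupOf H)).resolve_left hAtop
      haveI : M.Normal := Subgroup.NormalizerCondition.normal_of_coatom M
        Group.normalizerCondition_of_isNilpotent hM
      have hle' : A.map (MulAut.conj b).toMonoidHom ⊔ A ≤ M.map H.subtype := by
        refine sup_le ?_ ((map_subgroupOf_eq_of_le le_sup_left).ge.trans (Subgroup.map_mono hAM))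
        rintro _ ⟨a, ha, rfl⟩
        exact ⟨⟨b, le_sup_right (a := A) hb⟩ * ⟨a, le_sup_left (b := B) ha⟩ *
          (⟨b, le_sup_right (a := A) hb⟩ : H)⁻¹,
          ‹M.Normal›.conj_mem _ (hAM (x := ⟨a, le_sup_left (b := B) ha⟩) ha) _, rfl⟩
      have h1 := Nat.le_of_dvd Nat.card_pos (card_dvd_of_le hle')
      rw [card_map_of_injective H.subtype_injective] at h1
      have h2 : Nat.card M < Nat.card H := by
        refine lt_of_le_of_ne (card_le_card_group M) fun he => hM.1 (eq_top_of_card_eq M he)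
      omega
    have hnorm : ∀ A ∈ Δ, ∀ B ∈ Δ, A ≠ B → Nat.card (A ⊔ B : Subgroup G) ≤ n + 1 →
        ∀ b ∈ B, A.map (MulAut.conj b).toMonoidHom = A := by
      intro A hA B hB hAB hcard
      suffices h : ∀ (k : ℕ) (b : G), b ∈ B → b ^ 2 ^ k = 1 →
          A.map (MulAut.conj b).toMonoidHom = A by
        intro b hb
        obtain ⟨k, hk⟩ := hpow b (hle B hB hb)
        exact h k b hb hk
      intro k
      induction k with
      | zero =>
        intro b _ hk
        rw [pow_zero, pow_one] at hk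
        subst hk
        ext x; simp
      | succ k ihk =>
        intro b hb hk
        by_contra hmove
        have hb2 := ihk (b * b) (B.mul_mem hb hb) (by
          rw [← pow_two, ← pow_mul, ← pow_succ']; exact hk)
        refine ti_step (hord A hA B hB) (hΦ A hA) ?_ ?_ (fun r hr => hpow r (hle A hA hr)) hb
          ((hti _ (hinv b (hle B hB hb) A hA) A hA).resolve_left hmove)
          (hsub A hA B hB hAB hcard b hb hmove) ?_
        · intro r hr
          exact hti _ (hinv r (hle A hA hr) B hB) B hB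
        · intro r hr hm
          exact hsub B hB A hA hAB.symm (by rw [sup_comm]; exact hcard) r hr hm
        · intro r hr
          rw [← hb2]
          exact mem_map_of_mem (MulAut.conj (b * b)).toMonoidHom hr
    have h1 := hnorm R hR T hT hne hn
    have h2 := hnorm T hT R hR hne.symm (by rw [sup_comm]; exact hn)
    rw [commutator_eq_bot_iff_le_centralizer]
    intro r hr
    rw [mem_centralizer_iff]
    intro t ht
    have hmem : t * r * t⁻¹ * r⁻¹ ∈ R ⊓ T := by
      refine ⟨R.mul_mem ?_ (R.inv_mem hr), ?_⟩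
      · rw [← h1 t ht]
        exact mem_map_of_mem (MulAut.conj t).toMonoidHom hr
      · have e : t * r * t⁻¹ * r⁻¹ = t * (r * t⁻¹ * r⁻¹) := by group
        rw [e]
        refine T.mul_mem ht ?_
        rw [← h2 r hr]
        exact mem_map_of_mem (MulAut.conj r).toMonoidHom (T.inv_mem ht)
    rw [(hti R hR T hT).resolve_left hne, mem_bot, mul_inv_eq_one, mul_inv_eq_iff_eq_mul] at hmem
    exact hmem

end Cfsg.Agent.ClassK
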