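import Cfsg.Prelude.Def_SporadicB

/-!
# Sets of 3-transpositions: elementary lemmas
-/

set_option autoImplicit false

namespace Cfsg.Agent.ClassK

variable {G : Type*} [Group G] {E : Set G}

theorem tt_mul_self (hE : Cfsg.IsThreeTranspositionSet E) {a : G} (ha : a ∈ E) : a * a = 1 := by
  rw [← sq, ← hE.1 a ha]; exact pow_orderOf_eq_one a

theorem tt_inv (hE : Cfsg.IsThreeTranspositionSet E) {a : G} (ha : a ∈ E) : a⁻¹ = a :=
  inv_eq_of_mul_eq_one_right (tt_mul_self hE ha)

theorem tt_commute_iff (hE : Cfsg.IsThreeTranspositionSet E) {a b : G} (ha : a ∈ E) (hb : b ∈ E) :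
    Commute a b ↔ (a * b) ^ 2 = 1 := by
  constructor
  · intro h
    rw [h.mul_pow, sq, sq, tt_mul_self hE ha, tt_mul_self hE hb, one_mul]
  · intro h
    have h' := eq_inv_of_mul_eq_one_left (a := a * b) (b := a * b) (by rw [← sq, h])
    rw [mul_inv_rev, tt_inv hE ha, tt_inv hE hb] at h'
    exact h'

/-- Two noncommuting members satisfy the braid relation. -/
theorem tt_braid (hE : Cfsg.IsThreeTranspositionSet E) {a b : G} (ha : a ∈ E) (hb : b ∈ E)
    (h : ¬ Commute a b) : a * b * a = b * a * b := by
  have h3 := (hE.2 a ha b hb).resolve_left (fun h2 => h ((tt_commute_iff hE ha hb).mpr h2))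
  have : (a * b * a) * (b * a * b) = 1 := by rw [← h3]; simp only [pow_succ, pow_zero, one_mul, mul_assoc]
  rw [eq_inv_of_mul_eq_one_left this]
  simp only [mul_inv_rev, tt_inv hE ha, tt_inv hE hb, mul_assoc]

theorem tt_noncommute_cube (hE : Cfsg.IsThreeTranspositionSet E) {a b : G} (ha : a ∈ E) (hb : b ∈ E)
    (h : ¬ Commute a b) : (a * b) ^ 3 = 1 :=
  (hE.2 a ha b hb).resolve_left (fun h2 => h ((tt_commute_iff hE ha hb).mpr h2))

theorem commute_pair_iff (hE : Cfsg.IsThreeTranspositionSet E) {a b e : G} (ha : a ∈ E) (hb : b ∈ E)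
    (he : e ∈ E) (hab : a ≠ b) (hcomm : Commute a b) :
    Commute e (a * b) ↔ (Commute e a ∧ Commute e b) := by
  refine ⟨fun h => ?_, fun h => h.1.mul_right h.2⟩
  have haa := tt_mul_self hE ha
  have hee := tt_mul_self hE he
  by_cases h1 : Commute e a
  · refine ⟨h1, ?_⟩
    have : b = a * (a * b) := by rw [← mul_assoc, haa, one_mul]
    rw [this]; exact h1.mul_right h
  by_cases h2 : Commute e b
  · exfalso
    apply h1
    have : a = a * b * b := by rw [mul_assoc, tt_mul_self hE hb, mul_one]
    rw [this]; exact h.mul_right h2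
  exfalso
  have b1 := tt_braid hE he ha h1
  have b2 := tt_braid hE he hb h2
  have hconj : (e * a * e) * (e * b * e) = a * b := by
    calc (e * a * e) * (e * b * e) = e * a * (e * e) * b * e := by simp only [mul_assoc]
      _ = e * (a * b) * e := by rw [hee, mul_one, mul_assoc e a b]
      _ = a * b * (e * e) := by rw [h.eq, mul_assoc]
      _ = a * b := by rw [hee, mul_one]
  rw [b1, b2] at hconj
  -- `a e a b e b = a b`, so `e a b e = 1`
  have : e * (a * b) * e = 1 := by
    have h' : a * (e * (a * b) * e) * b = a * 1 * b := by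
      rw [mul_one]; refine Eq.trans ?_ hconj; simp only [mul_assoc]
    exact mul_left_cancel (mul_right_cancel h')
  have hab1 : a * b = 1 := by
    have := congrArg (fun x => e * x * e) this
    simpa [mul_assoc, hee, ← mul_assoc e e] using this
  exact hab (by rw [← tt_inv hE hb]; exact eq_inv_of_mul_eq_one_left hab1)

theorem commute_triple_iff (hE : Cfsg.IsThreeTranspositionSet E) {a b c e : G} (ha : a ∈ E)
    (hb : b ∈ E) (hc : c ∈ E) (he : e ∈ E) (hab : a ≠ b) (hac : a ≠ c) (hbc : b ≠ c)
    (h₁ : Commute a b) (h₂ : Commute a c) (h₃ : Commute b c) :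
    Commute e (a * b * c) ↔ (Commute e a ∧ Commute e b ∧ Commute e c) := by
  refine ⟨fun h => ?_, fun h => (h.1.mul_right h.2.1).mul_right h.2.2⟩
  have haa := tt_mul_self hE ha
  have hbb := tt_mul_self hE hb
  have hcc := tt_mul_self hE hc
  have hee := tt_mul_self hE he
  by_cases h1 : Commute e a
  · have : b * c = a * (a * b * c) := by simp only [← mul_assoc, haa, one_mul]
    exact ⟨h1, (commute_pair_iff hE hb hc he hbc h₃).mp (this ▸ h1.mul_right h)⟩
  by_cases h2 : Commute e b
  · have : a * c = b * (a * b * c) := by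
      rw [h₁.eq]; simp only [← mul_assoc, hbb, one_mul]
    have := (commute_pair_iff hE ha hc he hac h₂).mp (this ▸ h2.mul_right h)
    exact ⟨this.1, h2, this.2⟩
  by_cases h3 : Commute e c
  · have : a * b = a * b * c * c := by rw [mul_assoc, hcc, mul_one]
    have := (commute_pair_iff hE ha hb he hab h₁).mp (this ▸ h.mul_right h3)
    exact ⟨this.1, this.2, h3⟩
  exfalso
  have ba := tt_braid hE he ha h1
  have bb := tt_braid hE he hb h2
  have bc := tt_braid hE he hc h3
  -- conjugating `a b c` by `e` gives `(a e a) (b e b) (c e c)`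
  have hconj : (e * a * e) * (e * b * e) * (e * c * e) = a * b * c := by
    calc (e * a * e) * (e * b * e) * (e * c * e)
        = e * a * (e * e) * b * (e * e) * c * e := by simp only [mul_assoc]
      _ = e * (a * b * c) * e := by rw [hee, mul_one, mul_one]; simp only [mul_assoc]
      _ = a * b * c * (e * e) := by rw [h.eq, mul_assoc]
      _ = a * b * c := by rw [hee, mul_one]
  rw [ba, bb, bc] at hconj
  have hmid : e * (a * b) * e * (b * c) * e = b := by
    have h' : a * (e * (a * b) * e * (b * c) * e) * c = a * b * c := by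
      refine Eq.trans ?_ hconj; simp only [mul_assoc]
    exact mul_left_cancel (mul_right_cancel h')
  have hkey : (e * a * e) * (e * b * e) = b * (e * c) * b⁻¹ := by
    rw [tt_inv hE hb]
    calc (e * a * e) * (e * b * e) = e * (a * b) * e := by
            simp only [mul_assoc]; rw [← mul_assoc e e, hee, one_mul]
      _ = (e * (a * b) * e * (b * c) * e) * (e * (c * b)) := by
            simp only [mul_assoc]; rw [← mul_assoc e e, hee, one_mul, ← mul_assoc c c, hcc, one_mul,
              hbb, mul_one]
      _ = b * (e * (c * b)) := by rw [hmid]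
      _ = b * (e * c) * b := by simp only [mul_assoc]
  have hsq : ((e * a * e) * (e * b * e)) ^ 2 = 1 := by
    have h12 : ((e * a * e) * (e * b * e)) = e * (a * b) * e⁻¹ := by
      rw [tt_inv hE he]; simp only [mul_assoc]; rw [← mul_assoc e e, hee, one_mul]
    rw [h12, conj_pow, h₁.mul_pow, sq, sq, haa, hbb, one_mul, mul_one, mul_inv_cancel]
  rw [hkey, conj_pow] at hsq
  have : (e * c) ^ 2 = 1 := by
    have := congrArg (fun x => b⁻¹ * x * b) hsq
    simpa [mul_assoc] using this
  exact h3 ((tt_commute_iff hE he hc).mpr this)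

end Cfsg.Agent.ClassK
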