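import Mathlib
import Cfsg.Agent.Lib.ClassK.ThreeTransp

/-!
# Two noncommuting 3-transpositions generate a copy of the symmetric group of degree 3
-/

set_option autoImplicit false

namespace Cfsg.Agent.ClassK

variable {G : Type*} [Group G]

/-- `r i ↦ x ^ i`, `sr i ↦ d * x ^ i`. -/
def dihedralThreeFun (d x : G) : DihedralGroup 3 → G
  | .r i => x ^ i.val
  | .sr i => d * x ^ i.val

theorem dihedralThree_exists {d x : G} (hd : d * d = 1) (hx : x ^ 3 = 1) (hdx : d * x * d = x⁻¹)
    (hx1 : x ≠ 1) :
    Nonempty (Subgroup.closure ({d, d * x} : Set G) ≃* DihedralGroup 3) := by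
  have hsum : ∀ i j : ZMod 3, x ^ (i + j).val = x ^ i.val * x ^ j.val := by
    intro i j
    rw [← pow_add, ZMod.val_add]
    exact (pow_eq_pow_mod _ hx).symm
  have hflip : ∀ i : ZMod 3, x ^ i.val * d = d * x ^ (-i).val := by
    intro i
    have h1 : x ^ (-i).val = (x ^ i.val)⁻¹ := eq_inv_of_mul_eq_one_left (by rw [← hsum]; simp)
    have h2 : d * x ^ i.val * d = (x ^ i.val)⁻¹ := by
      have hdi : d⁻¹ = d := inv_eq_of_mul_eq_one_right hd
      have h := conj_pow (i := i.val) (a := d) (b := x)
      rw [hdi, hdx, inv_pow] at h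
      exact h.symm
    rw [h1, ← h2, mul_assoc d, ← mul_assoc, hd, one_mul]
  let f : DihedralGroup 3 →* G := MonoidHom.mk' (dihedralThreeFun d x) (by
    rintro (i | i) (j | j)
    · simp [dihedralThreeFun, DihedralGroup.r_mul_r, hsum]
    · simp only [dihedralThreeFun, DihedralGroup.r_mul_sr]
      rw [← mul_assoc, hflip, mul_assoc, ← hsum, sub_eq_add_neg, add_comm]
    · simp only [dihedralThreeFun, DihedralGroup.sr_mul_r]
      rw [hsum, mul_assoc]
    · simp only [dihedralThreeFun, DihedralGroup.sr_mul_sr]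
      rw [← mul_assoc, mul_assoc d, hflip, ← mul_assoc, hd, one_mul, ← hsum, sub_eq_add_neg, add_comm])
  have hord : orderOf x = 3 := by
    haveI : Fact (Nat.Prime 3) := ⟨Nat.prime_three⟩
    exact orderOf_eq_prime hx hx1
  have hinj : Function.Injective f := by
    rw [injective_iff_map_eq_one]
    rintro (i | i) h
    · have h' : x ^ i.val = 1 := h
      have h'' := orderOf_dvd_of_pow_eq_one h'
      rw [hord] at h''
      have hv : i.val = 0 := Nat.eq_zero_of_dvd_of_lt h'' i.val_lt
      rw [(ZMod.val_eq_zero i).mp hv, DihedralGroup.r_zero]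
    · exfalso
      have h' : d = (x ^ i.val)⁻¹ := eq_inv_of_mul_eq_one_left h
      have hc : Commute d x := by rw [h']; exact ((Commute.refl x).pow_left _).inv_left
      rw [hc.eq, mul_assoc, hd, mul_one] at hdx
      have h2 : x ^ 2 = 1 := by rw [sq]; nth_rewrite 2 [hdx]; exact mul_inv_cancel x
      refine hx1 ?_
      rw [pow_succ, h2, one_mul] at hx
      exact hx
  have hr : f.range = Subgroup.closure ({d, d * x} : Set G) := by
    apply le_antisymm
    · rintro _ ⟨y, rfl⟩
      have hdm : d ∈ Subgroup.closure ({d, d * x} : Set G) := Subgroup.subset_closure (by simp)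
      have hxm : x ∈ Subgroup.closure ({d, d * x} : Set G) := by
        have := mul_mem hdm (Subgroup.subset_closure (by simp : d * x ∈ ({d, d * x} : Set G)))
        rwa [← mul_assoc, hd, one_mul] at this
      rcases y with i | i
      · exact pow_mem hxm _
      · exact mul_mem hdm (pow_mem hxm _)
    · rw [Subgroup.closure_le]
      rintro y (rfl | rfl)
      · exact ⟨.sr 0, by simp [f, dihedralThreeFun]⟩
      · exact ⟨.sr 1, by simp [f, dihedralThreeFun, ZMod.val_one]⟩
  exact ⟨(MulEquiv.subgroupCongr hr).symm.trans (MonoidHom.ofInjective hinj).symm⟩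

universe w

theorem key_pair {H : Type w} [Group H] (u v : H) (hu : u * u = 1) (hv : v * v = 1) (hne : u ≠ v)
    (h3 : (u * v) ^ 3 = 1) : Nonempty (Subgroup.closure ({u, v} : Set H) ≃* DihedralGroup 3) := by
  have := dihedralThree_exists (d := u) (x := u * v) hu h3
    (by rw [← mul_assoc, hu, one_mul, mul_inv_rev, inv_eq_of_mul_eq_one_right hu,
      inv_eq_of_mul_eq_one_right hv])
    (fun h1 => hne ((eq_inv_of_mul_eq_one_left h1).trans (inv_eq_of_mul_eq_one_right hv)))
  rwa [show u * (u * v) = v by rw [← mul_assoc, hu, one_mul]] at this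

theorem closure_pair_equiv_perm {E : Set G} (hE : Cfsg.IsThreeTranspositionSet E) {d e : G}
    (hd : d ∈ E) (he : e ∈ E) (h : ¬ Commute d e) :
    Nonempty (Subgroup.closure ({d, e} : Set G) ≃* Equiv.Perm (Fin 3)) := by
  obtain ⟨φ⟩ := key_pair d e (tt_mul_self hE hd) (tt_mul_self hE he)
    (fun hc => h (hc ▸ Commute.refl d)) (tt_noncommute_cube hE hd he h)
  obtain ⟨ψ⟩ := key_pair (Equiv.swap (0 : Fin 3) 1) (Equiv.swap 1 2) (by decide) (by decide) (by decide) (by decide)
  have htop : Subgroup.closure ({Equiv.swap (0 : Fin 3) 1, Equiv.swap 1 2} : Set (Equiv.Perm (Fin 3))) = ⊤ := by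
    refine Subgroup.eq_top_of_card_eq _ ?_
    rw [Nat.card_congr ψ.toEquiv, DihedralGroup.nat_card, Nat.card_perm, Nat.card_fin]
    rfl
  exact ⟨φ.trans (ψ.symm.trans ((MulEquiv.subgroupCongr htop).trans Subgroup.topEquiv))⟩

end Cfsg.Agent.ClassK
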