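import Cfsg.Agent.Lib.Chev.AllX
import Cfsg.Agent.Lib.Chev.AllW

/-!
Centres of the exceptional Weyl groups and generation by the Coxeter element and reflections,
checked on the permutations of the roots.
-/

set_option autoImplicit false

namespace Cfsg.Agent.ClassK.WeylCert

open Cfsg.Agent.Chev Cfsg.Lie

variable {D : ChevalleyDatum} {P : Pk} {n : ℕ} {M : CoxeterMatrix (Fin n)}

/-- The element of a word. -/
def wd (M : CoxeterMatrix (Fin n)) (L : List (Fin n)) : M.Group := (L.map M.simple).prod

theorem wd_append (L L' : List (Fin n)) : wd M (L ++ L') = wd M L * wd M L' := by simp [wd]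

theorem wd_singleton (i : Fin n) : wd M [i] = M.simple i := by simp [wd]

theorem wd_surjective (g : M.Group) : ∃ L, wd M L = g := by
  obtain ⟨L, hL⟩ := M.toCoxeterSystem.wordProd_surjective g
  refine ⟨L, ?_⟩
  rw [← hL, CoxeterSystem.wordProd, CoxeterMatrix.toCoxeterSystem_simple]
  rfl

theorem wordOk_map (hck : ckCox P M.M = true) (L : List (Fin n)) : WordOk P (L.map Fin.val) := by
  simp only [ckCox, Bool.and_eq_true, nbeq, decide_eq_true_eq] at hck
  intro x hx
  obtain ⟨i, -, rfl⟩ := List.mem_map.1 hx
  exact hck.1 ▸ i.isLt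

theorem wd_eq_iff (h : Ok D P) (hC : P.ckComm = true) (hck : ckCox P M.M = true)
    (L L' : List (Fin n)) :
    wd M L = wd M L' ↔ ∀ r < P.nroots, wl P (L.map Fin.val) r = wl P (L'.map Fin.val) r := by
  obtain ⟨e, he⟩ := h.exists_hom (F := ℚ) hC hck
  rw [wd, wd, ← h.wcl_range hC _ (wordOk_map hck L) M e L he rfl,
    ← h.wcl_range hC _ (wordOk_map hck L') M e L' he rfl, e.injective.eq_iff, h.wcl_eq_iff]

/-- Equality of two words on all roots. -/
def sameB (P : Pk) (a b : List ℕ) : Bool :=
  P.allRoots.all fun r => Nat.beq (wl P a r) (wl P b r)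

theorem wd_eq_of_sameB (h : Ok D P) (hC : P.ckComm = true) (hck : ckCox P M.M = true)
    {L L' : List (Fin n)} (hs : sameB P (L.map Fin.val) (L'.map Fin.val) = true) :
    wd M L = wd M L' := by
  simp only [sameB, List.all_eq_true, Pk.mem_allRoots, nbeq, decide_eq_true_eq] at hs
  exact (wd_eq_iff h hC hck L L').2 hs

/-- Facts making the centre act as a sign. -/
def signOk (P : Pk) : Bool :=
  ((List.range P.rank).all fun i => P.allRoots.all fun r =>
      !Nat.beq (P.w i r) (P.ng r) || Nat.beq r (P.sim i) || Nat.beq r (P.ng (P.sim i))) &&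
    (P.allRoots.all fun r => (List.range P.rank).all fun i => (List.range P.rank).all fun j =>
      !(decide (0 < P.rv r i)) || !(decide (P.rv r j < 0))) &&
    (P.allRoots.all fun r => (List.range P.rank).all fun i =>
      decide (P.rv (P.ng r) i = - P.rv r i)) &&
    ((List.range P.rank).all fun j => Nat.beq j 0 || (List.range j).any fun i =>
      P.allRoots.any fun r => decide (0 < P.rv r i) && decide (0 < P.rv r j)) &&
    Nat.blt 0 P.rank

theorem central_sign (h : Ok D P) (hS : signOk P = true) {l : List ℕ} (hl : WordOk P l)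
    (hc : ∀ i < P.rank, ∀ r < P.nroots, wl P l (P.w i r) = P.w i (wl P l r)) :
    (∀ r < P.nroots, wl P l r = r) ∨ ∀ r < P.nroots, wl P l r = P.ng r := by
  simp only [signOk, Bool.and_eq_true, List.all_eq_true, List.any_eq_true, Pk.mem_allRoots, nbeq,
    List.mem_range, Bool.or_eq_true, Bool.not_eq_true', decide_eq_true_eq, decide_eq_false_iff_not,
    Nat.blt_eq] at hS
  obtain ⟨⟨⟨⟨hfix, hmix⟩, hng⟩, hconn⟩, hrank⟩ := hS
  have hsim : ∀ i < P.rank, wl P l (P.sim i) = P.sim i ∨ wl P l (P.sim i) = P.ng (P.sim i) := by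
    intro i hi
    have hs := h.sim_lt hi
    have e := hc i hi _ hs
    rw [h.w_sim hi, h.wl_ng l hl _ hs] at e
    rcases hfix i hi _ (h.wl_lt l hl _ hs) with (h1 | h1) | h1
    · exact absurd e.symm h1
    · exact Or.inl h1
    · exact Or.inr h1
  obtain ⟨ε, hε⟩ : ∃ ε : ℕ → ℤ, ∀ i < P.rank, (ε i = 1 ∧ wl P l (P.sim i) = P.sim i) ∨
      (ε i = -1 ∧ wl P l (P.sim i) = P.ng (P.sim i)) := by
    refine ⟨fun i => if wl P l (P.sim i) = P.sim i then 1 else -1, fun i hi => ?_⟩
    by_cases e : wl P l (P.sim i) = P.sim i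
    · exact Or.inl ⟨if_pos e, e⟩
    · exact Or.inr ⟨if_neg e, (hsim i hi).resolve_left e⟩
  have hrv : ∀ r < P.nroots, ∀ j < P.rank, P.rv (wl P l r) j = ε j * P.rv r j := by
    intro r hr j hj
    rw [h.rv_wl l hl r hr j hj, Finset.sum_eq_single j]
    · rcases hε j hj with ⟨e1, e2⟩ | ⟨e1, e2⟩
      · rw [e1, e2, h.rv_sim hj hj, if_pos rfl]; ring
      · rw [e1, e2, hng _ (h.sim_lt hj) j hj, h.rv_sim hj hj, if_pos rfl]; ring
    · intro k hk hne
      have hk' := Finset.mem_range.1 hk
      rcases hε k hk' with ⟨-, e2⟩ | ⟨-, e2⟩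
      · rw [e2, h.rv_sim hk' hj, if_neg hne, mul_zero]
      · rw [e2, hng _ (h.sim_lt hk') j hj, h.rv_sim hk' hj, if_neg hne, neg_zero, mul_zero]
    · intro hn; exact absurd (Finset.mem_range.2 hj) hn
  have hall : ∀ j < P.rank, ε j = ε 0 := by
    intro j
    induction j using Nat.strong_induction_on with
    | _ j ih =>
      intro hj
      rcases hconn j hj with h0 | ⟨i, hi, r, hr, hri, hrj⟩
      · rw [h0]
      · have hi' : i < P.rank := lt_trans hi hj
        rw [← ih i hi hi']
        have hlt := h.wl_lt l hl r hr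
        have a := hrv r hr i hi'
        have b := hrv r hr j hj
        rcases hε i hi' with ⟨e1, -⟩ | ⟨e1, -⟩ <;> rcases hε j hj with ⟨e2, -⟩ | ⟨e2, -⟩ <;>
          rw [e1] at a <;> rw [e2] at b <;> rw [e1, e2]
        · rcases hmix _ hlt i hi' j hj with x | x <;> omega
        · rcases hmix _ hlt j hj i hi' with x | x <;> omega
  rcases hε 0 hrank with ⟨e0, -⟩ | ⟨e0, -⟩
  · left
    intro r hr
    refine h.rv_inj (h.wl_lt l hl r hr) hr fun j hj => ?_
    rw [hrv r hr j hj, hall j hj, e0, one_mul]
  · right
    intro r hr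
    refine h.rv_inj (h.wl_lt l hl r hr) (Ok.ng_lt hr) fun j hj => ?_
    rw [hrv r hr j hj, hall j hj, e0, hng r hr j hj]
    ring

theorem rank_eq (hck : ckCox P M.M = true) : n = P.rank := by
  simp only [ckCox, Bool.and_eq_true, nbeq, decide_eq_true_eq] at hck
  exact hck.1

theorem mem_center_iff (h : Ok D P) (hC : P.ckComm = true) (hck : ckCox P M.M = true)
    (hS : signOk P = true) (L : List (Fin n)) :
    wd M L ∈ Subgroup.center M.Group ↔
      ((∀ r < P.nroots, wl P (L.map Fin.val) r = r) ∨
        ∀ r < P.nroots, wl P (L.map Fin.val) r = P.ng r) := by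
  have hn := rank_eq hck
  constructor
  · intro hm
    refine central_sign h hS (wordOk_map hck L) fun i hi r hr => ?_
    have e := (wd_eq_iff h hC hck (L ++ [⟨i, hn ▸ hi⟩]) ([⟨i, hn ▸ hi⟩] ++ L)).1
      (by rw [wd_append, wd_append]; exact (Subgroup.mem_center_iff.1 hm _).symm) r hr
    rw [List.map_append, List.map_append, wl_append, wl_append] at e
    exact e
  · intro hsign
    rw [Subgroup.mem_center_iff]
    intro g
    obtain ⟨L', rfl⟩ := wd_surjective g
    rw [← wd_append, ← wd_append, wd_eq_iff h hC hck]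
    intro r hr
    have hl' := wordOk_map hck L'
    have hlt := h.wl_lt _ hl' r hr
    rw [List.map_append, List.map_append, wl_append, wl_append]
    rcases hsign with hs | hs
    · rw [hs r hr, hs _ hlt]
    · rw [hs r hr, hs _ hlt, h.wl_ng _ hl' r hr]

/-- The Coxeter word. -/
def coxW (n : ℕ) : List (Fin n) := List.finRange n

/-- Repetition of a word. -/
def repW (L : List (Fin n)) (k : ℕ) : List (Fin n) := (List.replicate k L).flatten

theorem wd_repW (L : List (Fin n)) : ∀ k, wd M (repW L k) = wd M L ^ k
  | 0 => by simp [repW, wd]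
  | k + 1 => by
    rw [repW, List.replicate_succ, List.flatten_cons, wd_append, pow_succ']
    congr 1
    exact wd_repW L k

/-- A power of the Coxeter element acts as the negative. -/
def negOk (P : Pk) (n k : ℕ) : Bool :=
  P.allRoots.all fun r =>
    Nat.beq (wl P ((repW (coxW n) k).map Fin.val) r) (P.ng r) && !Nat.beq (P.ng r) r

theorem center_two (h : Ok D P) (hC : P.ckComm = true) (hck : ckCox P M.M = true)
    (hS : signOk P = true) {k : ℕ} (hk : negOk P n k = true) :
    Nat.card (Subgroup.center M.Group) = 2 ∧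
      Subgroup.center M.Group ≤ Subgroup.zpowers ((List.finRange n).map M.simple).prod := by
  simp only [negOk, List.all_eq_true, Pk.mem_allRoots, Bool.and_eq_true, nbeq, decide_eq_true_eq,
    Bool.not_eq_true', decide_eq_false_iff_not] at hk
  set z := wd M (repW (coxW n) k) with hz
  have hzc : z ∈ Subgroup.center M.Group :=
    (mem_center_iff h hC hck hS _).2 (Or.inr fun r hr => (hk r hr).1)
  have hall : ∀ g ∈ Subgroup.center M.Group, g = 1 ∨ g = z := by
    intro g hg
    obtain ⟨L, rfl⟩ := wd_surjective g
    rcases (mem_center_iff h hC hck hS L).1 hg with e | e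
    · left
      exact ((wd_eq_iff h hC hck L []).2 e).trans rfl
    · right
      exact (wd_eq_iff h hC hck L _).2 fun r hr => (e r hr).trans (hk r hr).1.symm
  have hne : z ≠ 1 := by
    intro e
    have hn := rank_eq hck
    have h0 : 0 < P.rank := by
      simp only [signOk, Bool.and_eq_true, Nat.blt_eq] at hS
      exact hS.2
    have hs := h.sim_lt h0
    have := (wd_eq_iff h hC hck (repW (coxW n) k) []).1 e _ hs
    exact (hk _ hs).2 ((hk _ hs).1.symm.trans this)
  constructor
  · have hset : (Subgroup.center M.Group : Set M.Group) = {1, z} := by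
      ext g
      refine ⟨fun hg => hall g hg, ?_⟩
      rintro (rfl | rfl)
      · exact Subgroup.one_mem _
      · exact hzc
    show Nat.card (Subgroup.center M.Group : Set M.Group) = 2
    rw [hset, Nat.card_coe_set_eq, Set.ncard_pair hne.symm]
  · intro g hg
    rcases hall g hg with rfl | rfl
    · exact Subgroup.one_mem _
    · rw [hz, wd_repW]
      exact Subgroup.npow_mem_zpowers _ k

/-- The negative of a fundamental weight is outside its orbit. -/
def noNegOk (P : Pk) (J : List ℕ) : Bool :=
  ((List.range P.rank).all fun i => J.contains i) && (J.all fun i => Nat.blt i P.rank) &&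
    ((P.orbit J 0).all fun v => J.all fun m => (P.orbit J 0).contains (P.vstep m v)) &&
    !((P.orbit J 0).contains ((P.vinit 0).map fun x => -x))

theorem center_one (h : Ok D P) (hC : P.ckComm = true) (hck : ckCox P M.M = true)
    (hS : signOk P = true) {J : List ℕ} (hJ : noNegOk P J = true) :
    Nat.card (Subgroup.center M.Group) = 1 := by
  have hS' := hS
  simp only [signOk, Bool.and_eq_true, List.all_eq_true, Pk.mem_allRoots, List.mem_range,
    decide_eq_true_eq, Nat.blt_eq] at hS'
  obtain ⟨⟨⟨-, hng⟩, -⟩, hrank⟩ := hS'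
  simp only [noNegOk, Bool.and_eq_true, List.all_eq_true, List.mem_range, List.contains_iff_mem,
    Nat.blt_eq, Bool.not_eq_true'] at hJ
  obtain ⟨⟨⟨hJ1, -⟩, hJ2⟩, hJ3⟩ := hJ
  rw [Subgroup.card_eq_one, Subgroup.eq_bot_iff_forall]
  intro g hg
  obtain ⟨L, rfl⟩ := wd_surjective g
  rcases (mem_center_iff h hC hck hS L).1 hg with e | e
  · exact ((wd_eq_iff h hC hck L []).2 e).trans rfl
  exfalso
  set l := L.map Fin.val with hl
  have hok : WordOk P l := wordOk_map hck L
  have hrev : WordOk P l.reverse := fun x hx => hok x (List.mem_reverse.1 hx)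
  have hv : Chev.vOf P 0 l = (P.vinit 0).map fun x => -x := by
    rw [Chev.vOf, Pk.vinit, List.map_map]
    refine List.map_congr_left fun i hi => ?_
    have hi' := List.mem_range.1 hi
    have hs := h.sim_lt hi'
    have er : wl P l.reverse (P.sim i) = P.ng (P.sim i) := by
      have := h.wl_reverse l hok (P.ng (P.sim i)) (Ok.ng_lt hs)
      rwa [e _ (Ok.ng_lt hs), Ok.ng_ng hs] at this
    rw [er, hng _ hs 0 hrank, h.rv_sim hi' hrank]
    show _ = -(bif Nat.beq i 0 then (1 : ℤ) else 0)
    cases i <;> simp [Nat.beq]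
  have hmem : Chev.vOf P 0 l ∈ P.orbit J 0 :=
    h.vOf_mem hrank hJ2 l ⟨hok, fun i hi => hJ1 i (hok i hi)⟩
  rw [hv] at hmem
  rw [List.contains_iff_mem.2 hmem] at hJ3
  exact Bool.noConfusion hJ3

/-- A derivation step of a reflection: conjugation by the Coxeter element or by an earlier one. -/
def stepOk (P : Pk) (cox : List ℕ) (ts : List (List ℕ)) (known : List (List ℕ))
    (R : List ℕ) : ℕ × ℕ × ℕ → Bool
  | (0, a, _) => Nat.blt a ts.length && sameB P R (ts.getD a [])
  | (1, a, _) => Nat.blt a known.length &&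
      sameB P (R ++ cox) (cox ++ known.getD a [])
  | (2, a, b) => Nat.blt a known.length && Nat.blt b known.length &&
      sameB P R (known.getD a [] ++ (known.getD b [] ++ known.getD a []))
  | (_, a, _) => Nat.blt a known.length && sameB P R (cox ++ known.getD a [])

/-- The derivation reaches all simple reflections. -/
def genOk (P : Pk) (cox : List ℕ) (ts : List (List ℕ)) :
    List (List ℕ) → List ((ℕ × ℕ × ℕ) × List ℕ) → Bool
  | known, [] => (List.range P.rank).all fun i => known.any fun R => sameB P R [i]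
  | known, (c, R) :: rest => (R.all fun x => Nat.blt x P.rank) && stepOk P cox ts known R c &&
      genOk P cox ts (known ++ [R]) rest

theorem closure_top (h : Ok D P) (hC : P.ckComm = true) (hck : ckCox P M.M = true)
    {S : Set M.Group} (hcox : wd M (coxW n) ∈ Subgroup.closure S) (ts : List (List (Fin n)))
    (hts : ∀ t ∈ ts, wd M t ∈ Subgroup.closure S) (steps : List ((ℕ × ℕ × ℕ) × List ℕ))
    (hg : genOk P ((coxW n).map Fin.val) (ts.map (List.map Fin.val)) [] steps = true) :
    Subgroup.closure S = ⊤ := by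
  have hn := rank_eq hck
  have lift : ∀ R : List ℕ, (R.all fun x => Nat.blt x P.rank) = true →
      ∃ L : List (Fin n), L.map Fin.val = R := by
    intro R hR
    simp only [List.all_eq_true, Nat.blt_eq] at hR
    exact ⟨R.pmap (fun x hx => (⟨x, hx⟩ : Fin n)) (fun x hx => hn ▸ hR x hx), by
      rw [List.map_pmap, List.pmap_eq_map, List.map_id']⟩
  have main : ∀ (steps : List ((ℕ × ℕ × ℕ) × List ℕ)) (known : List (List (Fin n))),
      (∀ K ∈ known, wd M K ∈ Subgroup.closure S) →
      genOk P ((coxW n).map Fin.val) (ts.map (List.map Fin.val)) (known.map (List.map Fin.val))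
        steps = true →
      ∀ i : Fin n, M.simple i ∈ Subgroup.closure S := by
    intro steps
    induction steps with
    | nil =>
      intro known hk hg i
      simp only [genOk, List.all_eq_true, List.mem_range, List.any_eq_true] at hg
      obtain ⟨R, hR, hs⟩ := hg i (hn ▸ i.isLt)
      obtain ⟨K, hK, rfl⟩ := List.mem_map.1 hR
      rw [← wd_singleton, ← wd_eq_of_sameB h hC hck (L := K) (L' := [i]) hs]
      exact hk K hK
    | cons st rest ih =>
      intro known hk hg i
      obtain ⟨⟨k, a, b⟩, R⟩ := st
      simp only [genOk, Bool.and_eq_true] at hg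
      obtain ⟨⟨hR, hst⟩, hrest⟩ := hg
      obtain ⟨L, rfl⟩ := lift R hR
      refine ih (known ++ [L]) ?_ (by rw [List.map_append]; exact hrest) i
      intro K hK
      rcases List.mem_append.1 hK with hK | hK
      · exact hk K hK
      rw [List.mem_singleton] at hK
      subst hK
      have getK : ∀ j, j < known.length →
          (known.map (List.map Fin.val)).getD j [] = (known.getD j []).map Fin.val ∧
            known.getD j [] ∈ known := fun j hj => by
        rw [List.getD_eq_getElem _ _ (by simpa using hj), List.getD_eq_getElem _ _ hj, List.getElem_map]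
        exact ⟨rfl, List.getElem_mem _⟩
      match k, hst with
      | 0, hst =>
        simp only [stepOk, Bool.and_eq_true, Nat.blt_eq, List.length_map] at hst
        obtain ⟨ha, hs⟩ := hst
        rw [List.getD_eq_getElem _ _ (by simpa using ha), List.getElem_map] at hs
        rw [wd_eq_of_sameB h hC hck hs]
        exact hts _ (List.getElem_mem _)
      | 1, hst =>
        simp only [stepOk, Bool.and_eq_true, Nat.blt_eq, List.length_map] at hst
        obtain ⟨ha, hs⟩ := hst
        rw [(getK a ha).1, ← List.map_append, ← List.map_append] at hs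
        have e := wd_eq_of_sameB h hC hck hs
        rw [wd_append, wd_append] at e
        rw [← mul_inv_cancel_right (wd M K) (wd M (coxW n)), e]
        exact Subgroup.mul_mem _ (Subgroup.mul_mem _ hcox (hk _ (getK a ha).2))
          (Subgroup.inv_mem _ hcox)
      | k + 3, hst =>
        simp only [stepOk, Bool.and_eq_true, Nat.blt_eq, List.length_map] at hst
        obtain ⟨ha, hs⟩ := hst
        rw [(getK a ha).1, ← List.map_append] at hs
        rw [wd_eq_of_sameB h hC hck hs, wd_append]
        exact Subgroup.mul_mem _ hcox (hk _ (getK a ha).2)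
      | 2, hst =>
        simp only [stepOk, Bool.and_eq_true, Nat.blt_eq, List.length_map] at hst
        obtain ⟨⟨ha, hb⟩, hs⟩ := hst
        rw [(getK a ha).1, (getK b hb).1, ← List.map_append, ← List.map_append] at hs
        rw [wd_eq_of_sameB h hC hck hs, wd_append, wd_append]
        exact Subgroup.mul_mem _ (hk _ (getK a ha).2)
          (Subgroup.mul_mem _ (hk _ (getK b hb).2) (hk _ (getK a ha).2))
  rw [eq_top_iff]
  intro g _
  obtain ⟨L, rfl⟩ := wd_surjective g
  refine Subgroup.list_prod_mem _ fun x hx => ?_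
  obtain ⟨i, -, rfl⟩ := List.mem_map.1 hx
  exact main steps [] (fun _ hK => absurd hK List.not_mem_nil) hg i

end Cfsg.Agent.ClassK.WeylCert
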