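import Mathlib.Init

/-! Derivations of the simple reflections from the Coxeter element and a few reflections (offline script). -/

set_option autoImplicit false

namespace Cfsg.Agent.ClassK.WeylCert

/-- Derivation for B2. -/
def stepsB2 : List ((Nat × Nat × Nat) × List Nat) := [
  ((0, 0, 0), [1]),
  ((3, 0, 0), [0])]

/-- Derivation for G2. -/
def stepsG2 : List ((Nat × Nat × Nat) × List Nat) := [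
  ((0, 0, 0), [1]),
  ((3, 0, 0), [0])]

/-- Derivation for D4. -/
def stepsD4 : List ((Nat × Nat × Nat) × List Nat) := [
  ((0, 0, 0), [0]),
  ((0, 1, 0), [2]),
  ((1, 0, 0), [1]),
  ((1, 1, 0), [2, 1, 0, 1, 2]),
  ((1, 3, 0), [3, 1, 3]),
  ((2, 2, 4), [3])]

/-- Derivation for F4. -/
def stepsF4 : List ((Nat × Nat × Nat) × List Nat) := [
  ((0, 0, 0), [0]),
  ((0, 1, 0), [2]),
  ((1, 0, 0), [1]),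
  ((1, 1, 0), [3])]

/-- Derivation for E6. -/
def stepsE6 : List ((Nat × Nat × Nat) × List Nat) := [
  ((0, 0, 0), [0]),
  ((1, 0, 0), [2]),
  ((1, 1, 0), [3, 1, 3]),
  ((1, 2, 0), [4, 3, 2, 0, 2, 3, 4]),
  ((1, 3, 0), [5, 4, 2, 3, 1, 3, 2, 4, 5]),
  ((1, 4, 0), [3]),
  ((1, 5, 0), [4]),
  ((1, 6, 0), [5]),
  ((2, 2, 5), [1])]

/-- Derivation for E7. -/
def stepsE7 : List ((Nat × Nat × Nat) × List Nat) := [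
  ((0, 0, 0), [3]),
  ((1, 0, 0), [4]),
  ((1, 1, 0), [5]),
  ((1, 2, 0), [6]),
  ((1, 3, 0), [6, 5, 4, 1, 3, 2, 0, 2, 3, 1, 4, 5, 6]),
  ((1, 4, 0), [3, 2, 3]),
  ((1, 5, 0), [4, 3, 1, 3, 4]),
  ((1, 6, 0), [5, 4, 3, 2, 0, 2, 3, 4, 5]),
  ((1, 7, 0), [6, 5, 4, 2, 3, 1, 3, 2, 4, 5, 6]),
  ((2, 0, 5), [2]),
  ((2, 1, 6), [3, 1, 3]),
  ((2, 4, 8), [0]),
  ((2, 0, 10), [1])]

/-- Derivation for E8. -/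
def stepsE8 : List ((Nat × Nat × Nat) × List Nat) := [
  ((0, 0, 0), [0]),
  ((1, 0, 0), [2]),
  ((1, 1, 0), [3, 1, 3]),
  ((1, 2, 0), [4, 3, 2, 0, 2, 3, 4]),
  ((1, 3, 0), [5, 4, 2, 3, 1, 3, 2, 4, 5]),
  ((1, 4, 0), [6, 5, 3, 4, 1, 3, 2, 0, 2, 3, 1, 4, 3, 5, 6]),
  ((1, 5, 0), [7, 6, 4, 5, 2, 3, 4, 1, 3, 2, 0, 2, 3, 1, 4, 3, 2, 5, 4, 6, 7]),
  ((1, 6, 0), [5, 3, 4, 2, 3, 1, 3, 2, 4, 3, 5]),
  ((1, 7, 0), [6, 4, 5, 3, 4, 1, 3, 2, 0, 2, 3, 1, 4, 3, 5, 4, 6]),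
  ((1, 8, 0), [7, 5, 6, 4, 5, 2, 3, 4, 1, 3, 2, 0, 2, 3, 1, 4, 3, 2, 5, 4, 6, 5, 7]),
  ((1, 9, 0), [6, 5, 3, 4, 2, 3, 1, 3, 2, 4, 3, 5, 6]),
  ((1, 10, 0), [7, 6, 4, 5, 3, 4, 1, 3, 2, 0, 2, 3, 1, 4, 3, 5, 4, 6, 7]),
  ((1, 11, 0), [5, 4, 3, 2, 3, 4, 5]),
  ((2, 4, 7), [3]),
  ((2, 4, 12), [1]),
  ((2, 5, 8), [4]),
  ((2, 6, 9), [5]),
  ((2, 7, 10), [6]),
  ((2, 8, 11), [7])]

end Cfsg.Agent.ClassK.WeylCert
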